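import Cfsg.Agent.BZ.Lab.Defs
import Cfsg.Agent.S0912
import Cfsg.Agent.H592.Defect
import Cfsg.Agent.Blocks.ExistsModular
import Cfsg.Agent.Lib.Cores

/-!
# BZ / Lab: tools for the glue (helper7)

* `tc` : the truncation to the `l`-regular elements; `Zs` : the `l`-elements of the centre;
* `exists_nz`, `sec_zero`, `rs_tc`, `rs_sec`, `Fam.sub`, `exists_aut`.
-/

set_option autoImplicit false
set_option linter.unusedSectionVars false

namespace Cfsg.Agent.BZ.Lab

open Cfsg Subgroup Cfsg.Agent.HZ.Gen Cfsg.Agent.Characters Cfsg.Agent.Characters.Core Cfsg.Agent.Blocks Cfsg.Agent.Blocks.Basic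
  Cfsg.Agent.OddOrderCharacters.VChar
open scoped ComplexConjugate

variable {l r m n N : ℕ} {K L : Type} [Group K] [Fintype K] [Group L] [Fintype L] {M : Ideal AlgInt}

open Classical in
/-- the truncation -/
noncomputable def tc (l : ℕ) (f : L → ℂ) : L → ℂ := fun y => if l ∣ orderOf y then 0 else f y

theorem tc_reg {f : L → ℂ} {y : L} (h : ¬ l ∣ orderOf y) : tc l f y = f y := if_neg h

theorem tc_sing {f : L → ℂ} {y : L} (h : l ∣ orderOf y) : tc l f y = 0 := if_pos h

theorem tc_congr {f g : L → ℂ} (h : ∀ y, ¬ l ∣ orderOf y → f y = g y) : tc l f = tc l g := funext fun y => by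
  by_cases e : l ∣ orderOf y
  · rw [tc_sing e, tc_sing e]
  · rw [tc_reg e, tc_reg e, h y e]

theorem ord_conj (x y : L) : orderOf (x * y * x⁻¹) = orderOf y := (MulAut.conj x).orderOf_eq y

theorem tc_cls {f : L → ℂ} (h : IsClassFunction L f) : IsClassFunction L (tc l f) := fun g x => by
  unfold tc
  rw [ord_conj, h]

theorem tc_sum {ι : Type*} (s : Finset ι) (c : ι → ℂ) (f : ι → L → ℂ) :
    tc l (fun y => ∑ i ∈ s, c i * f i y) = ∑ i ∈ s, c i • tc l (f i) := funext fun y => by
  rw [Finset.sum_apply]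
  by_cases e : l ∣ orderOf y
  · rw [tc_sing e]
    exact (Finset.sum_eq_zero fun i _ => by rw [Pi.smul_apply, tc_sing e, smul_zero]).symm
  · rw [tc_reg e]
    exact Finset.sum_congr rfl fun i _ => by rw [Pi.smul_apply, tc_reg e, smul_eq_mul]

theorem inner_tc_sum {ι : Type*} (s : Finset ι) (c : ι → ℂ) (f : ι → L → ℂ) (g : L → ℂ) :
    classInner (tc l fun y => ∑ i ∈ s, c i * f i y) g = ∑ i ∈ s, c i * classInner (tc l (f i)) g := by
  rw [tc_sum, classInner_sum_left]
  exact Finset.sum_congr rfl fun i _ => classInner_smul_left _ _ _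

theorem uf_eq (ψ f : L → ℂ) : uf l ψ f = Nat.card L * classInner (tc l f) ψ / ψ 1 := by
  classical
  rw [uf, classInner, mul_inv_cancel_left₀ card_ne_zero_complex, Finset.sum_div, Finset.sum_filter]
  exact Finset.sum_congr rfl fun y _ => by
    by_cases e : l ∣ orderOf y
    · rw [if_neg (not_not.2 e), tc_sing e, zero_mul, zero_div]
    · rw [if_pos e, tc_reg e]

theorem oth' (U : BoxUf) (hM : IsPModular l M) {ψ χ : IrrCharacter L} (h : ¬ SameBlock M (ψ : L → ℂ) χ) :
    classInner (tc l (χ : L → ℂ)) ψ = 0 := by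
  have h1 := U.oth hM h
  rw [uf_eq, div_eq_zero_iff, mul_eq_zero] at h1
  exact (h1.resolve_right (irr_one_ne_zero ψ.2)).resolve_left card_ne_zero_complex

/-- the `l`-elements of the centre -/
def Zs (l : ℕ) (L : Type) [Group L] : Subgroup L where
  carrier := {z | z ∈ center L ∧ ∃ k, z ^ l ^ k = 1}
  one_mem' := ⟨one_mem _, 0, one_pow _⟩
  inv_mem' := fun ⟨h, k, e⟩ => ⟨inv_mem h, k, by rw [inv_pow, e, inv_one]⟩
  mul_mem' := fun {a b} ⟨h, i, e⟩ ⟨h', j, e'⟩ => ⟨mul_mem h h', i + j, by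
    rw [(Commute.mul_pow (mem_center_iff.1 h' a)), pow_add, pow_mul, e, one_pow, mul_comm, pow_mul, e', one_pow, one_mul]⟩

theorem zs_le : Zs l L ≤ center L := fun _ h => h.1

theorem zs_p : IsPGroup l (Zs l L) := fun z => z.2.2.imp fun _ e => Subtype.ext e

theorem zs_aut (σ : MulAut L) {z : L} (h : z ∈ Zs l L) : σ z ∈ Zs l L :=
  ⟨mem_center_iff.2 fun y => by
    have := congrArg σ (mem_center_iff.1 h.1 (σ.symm y))
    simpa using this, h.2.imp fun _ e => by rw [← map_pow, e, map_one]⟩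

theorem zs_st (β : MulAut L) : StS β (Zs l L) := fun _ => ⟨fun h => by simpa using zs_aut β.symm h, zs_aut β⟩

theorem cen_le_defect (hM : IsPModular l M) {B : Set (IrrCharacter L)} (hB : IsPBlock M B) {D Z : Subgroup L}
    (hD : IsDefectGroup l M B D) (hZ : Z ≤ center L) (hp : IsPGroup l Z) : Z ≤ D :=
  have : Fact l.Prime := ⟨hM.1⟩
  (Lib.Cores.le_pCore ⟨fun z hz g => by rwa [mem_center_iff.1 (hZ hz) g, mul_inv_cancel_right]⟩ hp).trans
    (S0912.result l M hM B hB D hD)

theorem dvd_ord_mul (hl : l.Prime) {z y : L} (hc : Commute z y) (hz : ∃ k, z ^ l ^ k = 1) (h1 : z ≠ 1) (hy : ¬ l ∣ orderOf y) :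
    l ∣ orderOf (z * y) := by
  obtain ⟨k, hk⟩ := hz
  obtain ⟨j, -, hj⟩ := (Nat.dvd_prime_pow hl).1 (orderOf_dvd_of_pow_eq_one hk)
  rw [hc.orderOf_mul_eq_mul_orderOf_of_coprime (hj ▸ (hl.coprime_iff_not_dvd.2 hy).pow_left j), hj]
  rcases j with _ | j
  · exact absurd (orderOf_eq_one_iff.1 hj) h1
  · exact (dvd_pow_self l j.succ_ne_zero).mul_right _

theorem reg_mul (hl : l.Prime) {a g : L} (hc : Commute a g) (ha : ¬ l ∣ orderOf a) : l ∣ orderOf (a * g) ↔ l ∣ orderOf g := by
  refine ⟨fun h => (hl.dvd_mul.1 (h.trans hc.orderOf_mul_dvd_mul_orderOf)).resolve_left ha, fun h => ?_⟩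
  have h1 : Commute a⁻¹ (a * g) := ((Commute.refl a).mul_right hc).inv_left
  have h2 := h1.orderOf_mul_dvd_mul_orderOf
  rw [inv_mul_cancel_left, orderOf_inv] at h2
  exact (hl.dvd_mul.1 (h.trans h2)).resolve_left ha

theorem not_dvd_of_r (hl : l.Prime) (hr : r.Prime) (hne : l ≠ r) {a : L} (ha : ∃ k, orderOf a = r ^ k) : ¬ l ∣ orderOf a := by
  obtain ⟨k, hk⟩ := ha
  exact fun h => hne ((Nat.prime_dvd_prime_iff_eq hl hr).1 (hl.dvd_of_dvd_pow (hk ▸ h)))

open Classical in
/-- a multiple of a character meets, after truncation, a member of the block which is trivial on the central `l`-elements -/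
theorem exists_nz (U : BoxUf) (hM : IsPModular l M) {f : L → ℂ} {a : ℂ} (ha : a ≠ 0) (T : Finset (IrrCharacter L))
    (hf : ∀ y, f y = a * ∑ φ ∈ T, (φ : L → ℂ) y) {ψ : IrrCharacter L} (hψ : ψ ∈ T) :
    ∃ φ : IrrCharacter L, SameBlock M (ψ : L → ℂ) φ ∧ (∀ z ∈ Zs l L, ∀ y, (φ : L → ℂ) (z * y) = (φ : L → ℂ) y) ∧
      classInner (tc l f) φ ≠ 0 := by
  have := Local.isPrime_of_isPModular hM
  have := finite_irr (G := L)
  have := Fintype.ofFinite (IrrCharacter L)
  have := Fintype.ofFinite (Zs l L)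
  set T' := T.filter fun φ : IrrCharacter L => SameBlock M (ψ : L → ℂ) φ
  set g := tc l fun y => ∑ φ ∈ T', (1 : ℂ) * (φ : L → ℂ) y with hg
  have gc : IsClassFunction L g := tc_cls fun x y => Finset.sum_congr rfl fun φ _ => by rw [irr_conj φ.2]
  have g0 : g ≠ 0 := fun e => by
    have h1 := congrFun e 1
    rw [hg, tc_reg (by rw [orderOf_one, Nat.dvd_one]; exact hM.1.ne_one), Pi.zero_apply,
      Finset.sum_congr rfl fun φ _ => by rw [one_mul, irr_one_eq_charDegree φ.2], ← Nat.cast_sum, Nat.cast_eq_zero,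
      Finset.sum_eq_zero_iff] at h1
    exact (charDegree_pos ψ.2).ne' (h1 ψ (Finset.mem_filter.2 ⟨hψ, sameBlock_refl _⟩))
  let g' : L → ℂ := fun y => ∑ z : Zs l L, g (z * y)
  have gc' : IsClassFunction L g' := fun x y => Finset.sum_congr rfl fun z _ => by
    rw [← gc (z * x) y, ← mul_assoc y, mem_center_iff.1 z.2.1 y]
    simp only [mul_assoc]
  have h2 : classInner g' g = classInner g g := congrArg _ (Finset.sum_congr rfl fun y _ => by
    by_cases e : l ∣ orderOf y
    · rw [hg, tc_sing e, map_zero, mul_zero, mul_zero]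
    · refine congrArg (· * _) ((Finset.sum_eq_single 1 (fun z _ hz => ?_) (by simp)).trans (by simp))
      exact tc_sing (dvd_ord_mul hM.1 (mem_center_iff.1 z.2.1 y).symm z.2.2 (fun h => hz (Subtype.ext h)) e))
  have h3 : classInner g' g ≠ 0 := h2 ▸ fun e => g0 (classInner_self_eq_zero e)
  rw [classInner_eq_sum gc' gc] at h3
  obtain ⟨φ, -, h4⟩ := Finset.exists_ne_zero_of_sum_ne_zero h3
  have h5 : classInner g φ ≠ 0 := fun e => h4 (by rw [e, map_zero, mul_zero])
  have h6 : SameBlock M (ψ : L → ℂ) φ := by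
    by_contra h
    refine h5 ?_
    rw [hg, inner_tc_sum]
    exact Finset.sum_eq_zero fun η hη => by
      rw [oth' U hM fun e => h (sameBlock_trans (Finset.mem_filter.1 hη).2 (sameBlock_symm e)), mul_zero]
  refine ⟨φ, h6, fun z hz => ker_of_inner φ.2 hz.1 (fun y => ?_) (left_ne_zero_of_mul h4), ?_⟩
  · exact Fintype.sum_equiv (Equiv.mulRight (⟨z, hz⟩ : Zs l L)) _ _ fun x => by simp [mul_assoc]
  · rw [show f = fun y => ∑ η ∈ T, a * (η : L → ℂ) y from funext fun y => by rw [hf, Finset.mul_sum], inner_tc_sum,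
      ← Finset.mul_sum, ← Finset.sum_filter_add_sum_filter_not T fun φ : IrrCharacter L => SameBlock M (ψ : L → ℂ) φ,
      Finset.sum_eq_zero (s := T.filter fun φ : IrrCharacter L => ¬ SameBlock M (ψ : L → ℂ) φ) fun η hη =>
        oth' U hM fun e => (Finset.mem_filter.1 hη).2 (sameBlock_trans h6 e), add_zero]
    refine mul_ne_zero ha fun e => h5 ?_
    rw [hg, inner_tc_sum, ← e]
    exact Finset.sum_congr rfl fun _ _ => one_mul _

/-- a class function which misses a block misses it on a central section -/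
theorem sec_zero (U : BoxUf) (hM : IsPModular l M) {F : L → ℂ} (hF : IsClassFunction L F) {φ : IrrCharacter L}
    (h : ∀ η : IrrCharacter L, SameBlock M (φ : L → ℂ) η → classInner F η = 0) {t : L} (ht : t ∈ center L) :
    classInner (tc l fun y => F (t * y)) φ = 0 := by
  have := finite_irr (G := L)
  have := Fintype.ofFinite (IrrCharacter L)
  choose ω hω using fun η : IrrCharacter L => exists_omega η.2 (center L).subtype fun z => z.2
  rw [show (fun y => F (t * y)) = fun y => ∑ η : IrrCharacter L, (classInner F η * ω η ⟨t, ht⟩) * (η : L → ℂ) y from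
    funext fun y => by
      conv_lhs => rw [classFunction_eq_sum hF, Finset.sum_apply]
      exact Finset.sum_congr rfl fun η _ => by rw [Pi.smul_apply, smul_eq_mul, mul_assoc, ← hω η ⟨t, ht⟩ y]; rfl, inner_tc_sum]
  exact Finset.sum_eq_zero fun η _ => by
    by_cases e : SameBlock M (φ : L → ℂ) η
    · rw [h η e, zero_mul, zero_mul]
    · rw [oth' U hM e, mul_zero]

variable {α : MulAut K} {β : MulAut L} {ι : L →* K} {P : Subgroup K}

theorem Fr.nr (h : Fr l r m n N K α) : n < r := by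
  have := h.nm
  have := h.mr
  omega

/-- the restriction commutes with the truncation -/
theorem rs_tc (U : BoxUf) (h : Fr l r m n N K α) (hM : IsPModular l M) (hP : IsPGroup r P) (hι : Function.Injective ι)
    (hL : ι.range = centralizer (P : Set K)) {ξ : IrrCharacter K} {φ : L → ℂ}
    (h0 : ∀ ξ' : IrrCharacter K, SameBlock M (ξ : K → ℂ) ξ' → classInner (rs r P ξ' ∘ ι) φ = 0) :
    classInner (tc l (rs r P ξ ∘ ι)) φ = 0 := by
  have := Local.isPrime_of_isPModular hM
  have : Fact r.Prime := ⟨h.rp⟩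
  have := finite_irr (G := K)
  have := Fintype.ofFinite (IrrCharacter K)
  have h1 : tc l (rs r P ξ ∘ ι) = ∑ η : IrrCharacter K, classInner (tc l (ξ : K → ℂ)) η • (rs r P η ∘ ι) := funext fun y => by
    have hy : ι y ∈ centralizer (P : Set K) := hL ▸ ⟨y, rfl⟩
    obtain ⟨a, ha, e, -⟩ := h.bg.gel_spec hP h.nr hy
    have h2 := congrFun (classFunction_eq_sum (tc_cls (l := l) (irr_isClassFunction ξ.2))) (gel r P (ι y))
    rw [Finset.sum_apply] at h2 ⊢
    refine Eq.trans ?_ h2
    have h3 : l ∣ orderOf (gel r P (ι y)) ↔ l ∣ orderOf y := by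
      rw [e, reg_mul h.lp (hy a ha) (not_dvd_of_r h.lp h.rp h.ne (ord_of_mem hP ha)), orderOf_injective ι hι]
    by_cases e' : l ∣ orderOf y
    · rw [tc_sing e', tc_sing (h3.2 e')]
    · rw [tc_reg e', tc_reg (mt h3.1 e')]
      rfl
  rw [h1, classInner_sum_left]
  exact Finset.sum_eq_zero fun η _ => by
    rw [classInner_smul_left]
    by_cases e : SameBlock M (ξ : K → ℂ) η
    · rw [h0 η e, mul_zero]
    · rw [oth' U hM fun e' => e (sameBlock_symm e'), zero_mul]

theorem cen_comap {C : Type} [Group C] {κ : C →* K} (hκ : Function.Injective κ) (hP : P ≤ κ.range) :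
    centralizer ((P.comap κ : Subgroup C) : Set C) = (centralizer (P : Set K)).comap κ := by
  ext c
  refine ⟨fun h x hx => ?_, fun h x hx => hκ ?_⟩
  · obtain ⟨y, rfl⟩ := hP hx
    rw [← map_mul, h y hx, map_mul]
  · rw [map_mul, map_mul]
    exact h _ hx

theorem cen_map {C : Type} [Group C] {κ : C →* K} (hκ : Function.Injective κ) (A : Subgroup C) :
    centralizer (A : Set C) = (centralizer ((A.map κ : Subgroup K) : Set K)).comap κ := by
  rw [← cen_comap hκ (map_le_range κ A), comap_map_eq_self_of_injective hκ]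

/-- the section identity for the restriction -/
theorem rs_sec (S : BoxSt) (h : Fr l r m n N K α) (hP : IsPGroup r P) {C : Type} [Group C] [Fintype C] {γ : MulAut C} {κ : C →* K}
    (e : Emb κ γ α) (hPC : P ≤ κ.range) {t : C} (ht : t ∈ center C) {ξ : K → ℂ} {T : Finset (IrrCharacter C)} {c : IrrCharacter C → ℤ}
    (hT : ∀ η ∈ T, St γ (η : C → ℂ)) (hs : ∀ v, ¬ l ∣ orderOf v → ξ (κ (t * v)) = ∑ η ∈ T, (c η : ℂ) * (η : C → ℂ) (t * v))
    {v : C} (hv : κ v ∈ centralizer (P : Set K)) (hv' : ¬ l ∣ orderOf v) :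
    rs r P ξ (κ (t * v)) = ∑ η ∈ T, (c η : ℂ) * rs r (P.comap κ) η (t * v) := by
  have : Fact r.Prime := ⟨h.rp⟩
  have h' := h.sub e
  have hP' : IsPGroup r (P.comap κ) := hP.comap_of_injective κ e.inj
  have h1 : t * v ∈ centralizer ((P.comap κ : Subgroup C) : Set C) :=
    mul_mem (center_le_centralizer _ ht) (by rw [cen_comap e.inj hPC]; exact hv)
  have h2 : κ (t * v) ∈ centralizer (P : Set K) := by rwa [cen_comap e.inj hPC] at h1
  obtain ⟨a, ha, e1, e2⟩ := h.bg.gel_spec hP h.nr h2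
  obtain ⟨a, rfl⟩ := hPC ha
  have h3 : a * (t * v) = t * (a * v) := by rw [← mul_assoc, mem_center_iff.1 ht a, mul_assoc]
  have h4 : Commute a v := e.inj (by rw [map_mul, map_mul]; exact hv _ ha)
  rw [← map_mul] at e1 e2
  rw [rs, e1, h3, hs _ (by rwa [reg_mul h.lp h4 (not_dvd_of_r h.lp h.rp h.ne (ord_of_mem hP' ha))]), ← h3]
  refine Finset.sum_congr rfl fun η hη => congrArg _ (h'.bg.rs_eq hP' (S.rat h' η (hT η hη)) h.bdr h1 ha ?_).symm
  rw [cen_comap e.inj hPC]
  exact gn_map e.inj e2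

theorem Lv.comap {C : Type} [Group C] {κ : C →* K} (hκ : Function.Injective κ) {S : Subgroup K} (h : Lv l S)
    (hS : centralizer (S : Set K) ≤ κ.range) : Lv l (S.comap κ) := by
  obtain ⟨Q, h1, h2, h3⟩ := h
  have h4 : Q ≤ κ.range := (le_centralizer_iff.1 h2).trans hS
  refine ⟨Q.comap κ, h1.comap_of_injective κ hκ, ?_, fun y hy hl => h3 _ ?_ (by rwa [orderOf_injective κ hκ])⟩
  · rw [cen_comap hκ h4]
    exact comap_mono h2
  · rwa [cen_comap hκ h4] at hy

theorem Fam.sub (h : Fr l r m n N K α) (hF : Fam l r α P) {C : Type} [Group C] {γ : MulAut C} {κ : C →* K} (e : Emb κ γ α)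
    (hP : P ≤ κ.range) (hC : centralizer (P : Set K) ≤ κ.range) : Fam l r γ (P.comap κ) := fun P' h1 h2 h3 => by
  have : Fact r.Prime := ⟨h.rp⟩
  have h4 : P ≤ P'.map κ := (map_comap_eq_self hP).symm.le.trans (map_mono h1)
  rw [cen_map e.inj]
  exact (hF _ h4 (h2.map κ) (h3.map e)).comap e.inj
    (((centralizer_le (h.bg.ab' (h2.map κ))).trans (centralizer_le h4)).trans hC)

theorem Fam.mono {P' : Subgroup K} (hF : Fam l r α P) (h : P ≤ P') : Fam l r α P' := fun Q h1 => hF Q (h.trans h1)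

/-- the automorphism induced by an element of the normaliser -/
theorem exists_aut (hι : Function.Injective ι) (hL : ι.range = centralizer (P : Set K)) {g : K} (hg : g ∈ normalizer (P : Set K)) :
    ∃ σ : MulAut L, ∀ y, ι (σ y) = g * ι y * g⁻¹ := by
  have h1 : ∀ y, ∃ y', ι y' = g * ι y * g⁻¹ := fun y => by
    have h2 : ι y ∈ centralizer (P : Set K) := hL ▸ ⟨y, rfl⟩
    have h3 : g * ι y * g⁻¹ ∈ centralizer (P : Set K) :=
      (normal_subgroupOf_iff (centralizer_le_normalizer _)).1 inferInstance _ g h2 hg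
    rwa [← hL] at h3
  choose f hf using h1
  have h2 : Function.Injective f := fun a b e => hι (by simpa [hf] using congrArg ι e)
  exact ⟨MulEquiv.ofBijective (MonoidHom.mk' f fun a b => hι (by simp [hf, mul_assoc])) (Finite.injective_iff_bijective.1 h2), hf⟩

end Cfsg.Agent.BZ.Lab
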