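import Cfsg.Agent.BZ.Lab.Defs
import Cfsg.Agent.HZ.Gen.Geo
import Cfsg.Agent.LV.Blk.Sit
import Cfsg.Agent.Lib.Zsigmondy

/-!
# BZ / Lab: the frame of a finite reductive group (helper12)

`boxGeo : BoxGeo`; `lg_syl` : the `l`-part of the order of `G ^ (F ^ m)` is bounded; `exists_r`, `lg_r` : primitive primes.
-/

set_option autoImplicit false
set_option linter.unusedSectionVars false

namespace Cfsg.Agent.BZ.Lab

open Cfsg Subgroup Cfsg.Agent.HZ.Gen Cfsg.Agent.DL Cfsg.Agent.KZ.Lie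

/-- primitive primes -/
theorem exists_r {p f m : ℕ} (hp : p.Prime) (hf : 1 ≤ f) (hm : 6 < m) :
    ∃ r : ℕ, r.Prime ∧ m < r ∧ r ≠ p ∧ orderOf (p : ZMod r) = f * m := by
  have h0 : m ≤ f * m := Nat.le_mul_of_pos_left _ hf
  obtain ⟨r, hr, h1, h2, h3⟩ := Lib.Zsigmondy.exists_primitive (n := f * m) hp.two_le (by omega) (by omega) (by omega)
  have h4 := Nat.le_of_dvd (by have := hr.two_le; omega) h2
  refine ⟨r, hr, by omega, fun e => h3 (e ▸ dvd_rfl), Nat.dvd_antisymm ?_ ?_⟩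
  · exact (Lib.Zsigmondy.dvd_pow_sub_one_iff hp.one_le _).1 ((h1 _).2 dvd_rfl)
  · exact (h1 _).1 ((Lib.Zsigmondy.dvd_pow_sub_one_iff hp.one_le _).2 dvd_rfl)

theorem lg_r {p f : ℕ} (hp : p.Prime) (hf : 1 ≤ f) :
    Lg fun m => ∃ r : ℕ, r.Prime ∧ m < r ∧ r ≠ p ∧ orderOf (p : ZMod r) = f * m :=
  (Lg.gt 6).mono fun _ => exists_r hp hf

theorem det_cong {R : Type} [Fintype R] [DecidableEq R] (A : Matrix R R ℤ) {n t : ℕ} (ht : t ≡ 1 [MOD n]) :
    n ∣ ((t : ℤ) • A - 1).det.natAbs ↔ n ∣ (A - 1).det.natAbs := by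
  have h1 : (t : ZMod n) = 1 := by rw [(ZMod.natCast_eq_natCast_iff _ _ _).2 ht, Nat.cast_one]
  have h2 : ∀ B : Matrix R R ℤ, n ∣ B.det.natAbs ↔ ((Int.castRingHom (ZMod n)).mapMatrix B).det = 0 := fun B => by
    rw [← RingHom.map_det, eq_intCast, ZMod.intCast_zmod_eq_zero_iff_dvd, Int.natCast_dvd]
  rw [h2, h2, map_sub, map_sub, map_zsmul, natCast_zsmul, ← Nat.cast_smul_eq_nsmul (ZMod n), h1, one_smul]

variable {p : ℕ} [Fact p.Prime] {k : Type} [Field k] [CharP k p] [IsAlgClosed k] {Y : Type} [Group Y] {I : Type} [Fintype I]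
  [DecidableEq I] {ρ : Y →* GL I k} {F : MulAut Y} {G : Subgroup Y} (D : Datum p ρ F G) {l : ℕ}

/-- the `l`-parts of the orders of the tori do not change -/
theorem lg_ordT (hl : l.Prime) (hp : l ≠ p) (c : ℕ) :
    Lg fun m => ∀ (hm : 0 < m) (w : D.W), l ^ c ∣ ordT (D.pow hm) w ↔ l ^ c ∣ ordT D w := by
  obtain ⟨d, e, L⟩ := PP.exists_lvl D
  refine (Lg.lvl (mul_pos L.d_pos (Nat.totient_pos.2 (pow_pos hl.pos c)))).mono fun m ⟨j, hj⟩ hm w => ?_
  have h1 : D.Mx ^ m = ((p : ℤ) ^ (e * ((l ^ c).totient * j))) • D.Mx := by rw [hj, mul_assoc, LV.One.pow_Mx L]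
  show _ ∣ (D.Wm w * D.Mx ^ m - 1).det.natAbs ↔ _
  rw [h1, mul_smul_comm, ← Nat.cast_pow]
  refine det_cong _ ?_
  rw [mul_left_comm, pow_mul]
  simpa using (Nat.ModEq.pow_totient (((Nat.coprime_primes Fact.out hl).2 hp.symm).pow_right c)).pow (e * j)

include D in
/-- **the `l`-part of the order is bounded** -/
theorem lg_syl (hl : l.Prime) (hp : l ≠ p) : ∃ N, Lg fun m => l ^ (Nat.card (GF (F ^ m) G)).factorization l ≤ N := by
  have := Fintype.ofFinite D.W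
  refine ⟨l ^ (∑ w, ordT D w + Nat.card D.W), (Lg.prime.and (lg_ordT D hl hp (∑ w, ordT D w))).mono fun m ⟨hm, h⟩ => ?_⟩
  have := (D.pow hm.pos).amb.finite_GF G
  have := Fintype.ofFinite (GF (F ^ m) G)
  obtain ⟨w, hw⟩ := LV.Blk.exists_card (D.pow hm.pos) hl hp
  refine Nat.pow_le_pow_right hl.pos (hw.le.trans ?_)
  rw [Nat.factorization_mul (ordT_ne w) Nat.card_pos.ne', Finsupp.add_apply]
  refine add_le_add (le_of_not_ge fun h1 => ?_) ((Nat.factorization_lt l Nat.card_pos.ne').le.trans (card_le_card_group _))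
  have h2 := Nat.le_of_dvd (Nat.pos_of_ne_zero (ordT_ne (D := D) w)) ((h hm.pos w).1 ((hl.pow_dvd_iff_le_factorization (ordT_ne w)).2 h1))
  exact (h2.trans (Finset.single_le_sum (f := ordT D) (fun _ _ => Nat.zero_le _) (Finset.mem_univ w))).not_gt
    (Nat.lt_pow_self hl.one_lt)

/-- **the frame** -/
theorem boxGeo : BoxGeo := by
  intro p _ k _ _ _ Y _ I _ _ ρ F G D l hl hp
  obtain ⟨N, hN⟩ := lg_syl D hl hp
  obtain ⟨f⟩ := nonempty_fr D
  refine ⟨N, ((hN.and (lg_lp f)).and (Lg.gt ((N ^ 4 + 1) ^ 2 + l + p + Nat.card (GF F G) + bd (nb D) 1 + 2 * nb D))).mono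
    fun m ⟨⟨h1, h2⟩, h3⟩ => ?_⟩
  have := D.amb.finite_GF G
  have := (D.pow h2.prime.pos).amb.finite_GF G
  have := Fintype.ofFinite (GF F G)
  have := Fintype.ofFinite (GF (F ^ m) G)
  obtain ⟨α, hα, hS⟩ := LV.Lift.exists_setup h2
  have h4 : ∀ n g, ((α ^ n) g : Y) = (F ^ n) g := fun n g => by
    induction n with
    | zero => rfl
    | succ n ih => rw [pow_succ', pow_succ', MulAut.mul_apply, MulAut.mul_apply, hα, ih]
  refine ⟨α, hα, fun r hr hm => ⟨⟨hl, h2.prime, MulEquiv.ext fun g => Subtype.ext ((h4 m g).trans g.2.2), hS.ndvd, h1, by omega⟩,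
    hr, hm, by omega, fun g hg => ?_, ?_, by omega, by omega⟩⟩
  · obtain ⟨c, rfl⟩ := (hS.fixed g).1 fun s => (LV.Lift.inv_zpowers (φ := α) (· = g) (fun x => propext
      ⟨fun e => α.injective (e.trans hg.symm), fun e => e ▸ hg⟩) s g).mpr rfl
    have h5 : orderOf c ≤ Nat.card (GF F G) := orderOf_le_card
    rw [orderOf_injective _ hS.inj]
    omega
  · have := Fact.mk hr
    have h5 := h2.big
    exact big_GF (D.pow h2.prime.pos) (by omega) fun h => by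
      have h6 : r ≤ Nat.card D.W := Nat.le_of_dvd Nat.card_pos h
      omega

end Cfsg.Agent.BZ.Lab
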