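import Cfsg.Agent.BZ.Lab.BC

/-!
# BZ / Lab: the main theorem (helper7)

`boxMain_of`.
-/

set_option autoImplicit false
set_option linter.unusedSectionVars false

namespace Cfsg.Agent.BZ.Lab

open Cfsg Subgroup Cfsg.Agent.HZ.Gen Cfsg.Agent.Characters Cfsg.Agent.Characters.Core Cfsg.Agent.Blocks Cfsg.Agent.Blocks.Basic
  Cfsg.Agent.Blocks.Local Cfsg.Agent.OddOrderCharacters.VChar
open scoped ComplexConjugate

variable {l r m n N : ℕ} {K L : Type} [Group K] [Fintype K] [Group L] [Fintype L] {M : Ideal AlgInt}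
  {α : MulAut K} {β : MulAut L} {ι : L →* K} {P : Subgroup K}

theorem uf_sum {ι : Type*} (ψ : L → ℂ) (s : Finset ι) (c : ι → ℂ) (f : ι → L → ℂ) :
    uf l ψ (fun y => ∑ i ∈ s, c i * f i y) = ∑ i ∈ s, c i * uf l ψ (f i) := by
  simp only [uf_eq, inner_tc_sum, Finset.mul_sum, Finset.sum_div]
  exact Finset.sum_congr rfl fun i _ => by ring

theorem uf_sub (ψ f g : L → ℂ) : uf l ψ (f - g) = uf l ψ f - uf l ψ g := by
  simp only [uf, Pi.sub_apply, sub_mul, sub_div, Finset.sum_sub_distrib]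

theorem uf_aut (σ : MulAut L) (ψ f : L → ℂ) : uf l (ψ ∘ σ) (f ∘ σ) = uf l ψ f := by
  classical
  simp only [uf, Finset.sum_filter, Function.comp_apply, map_one]
  exact Fintype.sum_equiv σ.toEquiv _ _ fun y => by simp [σ.orderOf_eq]

theorem central_aut (σ : MulAut L) (ψ : L → ℂ) (y : L) : centralChar (ψ ∘ σ) y = centralChar ψ (σ y) := by
  rw [centralChar, centralChar, Function.comp_apply, Function.comp_apply, map_one]
  rw [← index_comap_of_surjective (centralizer {σ y}) (f := σ.toMonoidHom) σ.surjective,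
    show (centralizer {σ y}).comap σ.toMonoidHom = centralizer {y} from Subgroup.ext fun x => by
      rw [mem_comap, mem_cen, mem_cen]
      exact ⟨fun h => σ.injective (by rw [map_mul, map_mul]; exact h), fun h => h.map σ⟩]

theorem inner_shift {f g : L → ℂ} {a b : ℂ} {z : L} (hf : ∀ y, f (z * y) = a * f y) (hg : ∀ y, g (z * y) = b * g y)
    (h : classInner f g ≠ 0) : a * conj b = 1 := by
  refine mul_right_cancel₀ h ?_
  rw [one_mul, ← classInner_smul_left, classInner, classInner, ← Equiv.sum_comp (Equiv.mulLeft z) fun y => f y * conj (g y)]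
  exact congrArg _ (Finset.sum_congr rfl fun y _ => by
    rw [Equiv.coe_mulLeft, hf, hg, map_mul, Pi.smul_apply, smul_eq_mul]; ring)

theorem gn_central [Fact r.Prime] {S : Subgroup K} {z g : K} (hz : z ∈ center K) (h : Gn r S g) : Gn r S (z * g) := fun b hb c hc => by
  obtain ⟨k, hk⟩ := PPart.exists_pow_eq (G := K) r
  obtain ⟨b', hb'⟩ := PPart.exists_isPPart r g
  refine h b' hb' (mem_cen.2 ?_)
  have h1 := mem_cen.1 hc
  rw [← hk _ b hb, Commute.mul_pow (mem_center_iff.1 hz g).symm, hk _ b' hb'] at h1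
  have h2 : Commute c (z ^ k) := mem_center_iff.1 (pow_mem hz k) c
  simpa using h2.inv_right.mul_right h1

theorem sameBlock_aut (σ : MulAut L) {ψ φ : L → ℂ} (h : SameBlock M ψ φ) : SameBlock M (ψ ∘ σ) (φ ∘ σ) := fun y => by
  rw [central_aut, central_aut]
  exact h _

section crit

variable (S : BoxSt) (U : BoxUp) (V : BoxUf) (C : BoxCur) (O : BoxOrb) (hM : IsPModular l M) (h : Fr l r m n N K α)
  (hP : IsPGroup r P) (hs : StS α P) (e : Emb ι β α) (hL : ι.range = centralizer (P : Set K)) (hv : Lv l (centralizer (P : Set K)))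
  {ξ χ : IrrCharacter K} {ψ : IrrCharacter L}

include S V C hM h hP hs e hL hv in
theorem uf_rs (hξ : St α (ξ : K → ℂ)) (hu : Up l M ι ψ χ) :
    MemLocalIdeal M (uf l (ψ : L → ℂ) (rs r P ξ ∘ ι) - uf l (χ : K → ℂ) (ξ : K → ℂ)) := by
  have : Fact r.Prime := ⟨h.rp⟩
  have := isPrime_of_isPModular hM
  refine memLocalIdeal_sub_trans ?_ (V.up hM e.inj (gen_of_irr ξ.2) hu)
  rw [← uf_sub]
  exact V.cong hM ψ (gen_isClassFunction (gen_sub (h.bg.rs_gen hP (S.rat h ξ hξ) h.bdr e.inj hL) (gen_comp ι (gen_of_irr ξ.2))))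
    fun y hy => C h hM P hP hs hv ξ hξ _ (hL ▸ ⟨y, rfl⟩) (by rwa [orderOf_injective ι e.inj])

include S V C hM h hP hs e hL hv in
/-- every member of a block below the block of `χ` occurs in the restriction of a member -/
theorem exists_over (hχ : St α (χ : K → ℂ)) (hu : Up l M ι ψ χ) :
    ∃ ξ : IrrCharacter K, SameBlock M (χ : K → ℂ) ξ ∧ classInner (rs r P ξ ∘ ι) ψ ≠ 0 := by
  have := isPrime_of_isPModular hM
  obtain ⟨χ₀, h1, h2, -⟩ := H592.Defect.exists_height_zero l hM (isPBlock_blockOf (M := M) χ)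
  have h3 : blockHeight l (blockOf M (χ : K → ℂ)) (χ₀ : K → ℂ) = 0 :=
    Nat.sub_eq_zero_of_le (le_csInf ⟨_, χ₀, h1, rfl⟩ (by rintro _ ⟨x, hx, rfl⟩; exact h2 x hx))
  by_contra h4
  push Not at h4
  have h5 := uf_rs S V C hM h hP hs e hL hv (S.blk h.toGl hM χ hχ χ₀ h1) hu
  rw [uf_eq, rs_tc V h hM hP e.inj hL fun ξ h6 => h4 ξ (sameBlock_trans h1 h6), mul_zero, zero_div, zero_sub,
    memLocalIdeal_neg_iff] at h5
  exact (V.ht hM h1).2 h3 h5

include S V C O hM h hP hs e hL hv in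
/-- **the criterion** -/
theorem crit_of (hξ : St α (ξ : K → ℂ)) (hu : Up l M ι ψ ξ) (h0 : classInner (rs r P ξ ∘ ι) ψ ≠ 0) (ht : Tight r ι P (ψ : L → ℂ))
    (hz : blockHeight l (blockOf M (ξ : K → ℂ)) (ξ : K → ℂ) = 0) :
    blockHeight l (blockOf M (ψ : L → ℂ)) (ψ : L → ℂ) = 0 ∧ ¬ l ∣ (Orb ι P (ψ : L → ℂ) ∩ blockOf M (ψ : L → ℂ)).ncard := by
  classical
  have := isPrime_of_isPModular hM
  obtain ⟨a, T, -, -, h1, h2⟩ := orb_fin S O h hP e hL hξ h0 ht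
  have h3 := uf_rs S V C hM h hP hs e hL hv hξ hu
  have h4 := mt (memLocalIdeal_iff_of_sub h3).1 ((V.ht hM (sameBlock_refl _)).2 hz)
  set T' := T.filter fun φ : IrrCharacter L => SameBlock M (ψ : L → ℂ) φ
  have h5 : (Orb ι P (ψ : L → ℂ) ∩ blockOf M (ψ : L → ℂ)).ncard = T'.card := by
    rw [← Set.ncard_coe_finset]
    congr 1
    ext φ
    rw [Finset.mem_coe, Finset.mem_filter, h1]
    rfl
  have h6 : uf l (ψ : L → ℂ) (rs r P ξ ∘ ι) = a * ∑ φ ∈ T', uf l (ψ : L → ℂ) (φ : L → ℂ) := by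
    rw [show rs r P ξ ∘ ι = fun y => ∑ φ ∈ T, (a : ℂ) * (φ : L → ℂ) y from funext fun y => by rw [h2, Finset.mul_sum], uf_sum,
      ← Finset.mul_sum, Finset.sum_filter_of_ne fun φ _ h6 => by_contra fun h7 => h6 (V.oth hM h7)]
  have h7 : MemLocalIdeal M (∑ φ ∈ T', uf l (ψ : L → ℂ) (φ : L → ℂ) - ∑ φ ∈ T', uf l (ψ : L → ℂ) (ψ : L → ℂ)) :=
    memLocalIdeal_sum_sub_sum fun φ hφ => by
      obtain ⟨h7, h8⟩ := Finset.mem_filter.1 hφ
      obtain ⟨g, hg, h9⟩ := (h1 φ).1 h7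
      obtain ⟨σ, hσ⟩ := exists_aut e.inj hL hg
      have h10 : (φ : L → ℂ) ∘ σ = ψ := funext fun y => h9 _ _ (hσ y)
      have h11 := V.blk hM (gen_of_irr φ.2) h8
      rwa [← uf_aut σ (φ : L → ℂ), h10] at h11
  rw [Finset.sum_const, nsmul_eq_mul] at h7
  have h8 : ¬ MemLocalIdeal M ((T'.card : ℂ) * uf l (ψ : L → ℂ) (ψ : L → ℂ)) := fun h8 =>
    h4 (h6 ▸ memLocalIdeal_mul_left (memLocalRing_intCast a) ((memLocalIdeal_iff_of_sub h7).2 h8))
  refine ⟨(V.ht hM (sameBlock_refl _)).1 fun h9 => h8 (memLocalIdeal_mul_left (memLocalRing_natCast _) h9), fun h9 => h8 ?_⟩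
  exact memLocalIdeal_mul_right ((memLocalIdeal_natCast_iff hM _).2 (h5 ▸ h9)) (V.int hM ψ (gen_of_irr ψ.2))

include S h hP e hL in
theorem cen_rs (hξ : St α (ξ : K → ℂ)) (h0 : classInner (rs r P ξ ∘ ι) ψ ≠ 0) {z : L} (hz : ι z ∈ center K) :
    (ξ : K → ℂ) (ι z) / (ξ : K → ℂ) 1 = (ψ : L → ℂ) z / (ψ : L → ℂ) 1 := by
  have : Fact r.Prime := ⟨h.rp⟩
  have hz' : z ∈ center L := mem_center_iff.2 fun y => e.inj (by rw [map_mul, map_mul, mem_center_iff.1 hz])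
  obtain ⟨ω, hω⟩ := exists_omega ξ.2 (center K).subtype fun z => z.2
  obtain ⟨ω', hω'⟩ := exists_omega ψ.2 (center L).subtype fun z => z.2
  have h1 := hω ⟨_, hz⟩ 1
  have h2 := hω' ⟨_, hz'⟩ 1
  rw [mul_one] at h1 h2
  rw [show (ξ : K → ℂ) (ι z) = _ from h1, show (ψ : L → ℂ) z = _ from h2, mul_div_cancel_right₀ _ (irr_one_ne_zero ξ.2),
    mul_div_cancel_right₀ _ (irr_one_ne_zero ψ.2)]
  have h3 : ∀ y, (rs r P ξ ∘ ι) (z * y) = ω ⟨_, hz⟩ * (rs r P ξ ∘ ι) y := fun y => by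
    have hy : ∀ y, ι y ∈ centralizer (P : Set K) := fun y => hL ▸ ⟨y, rfl⟩
    obtain ⟨a, ha, e1, e2⟩ := h.bg.gel_spec hP h.nr (hy y)
    have h4 : a * ι (z * y) = ι z * (a * ι y) := by rw [map_mul, ← mul_assoc, mem_center_iff.1 hz a, mul_assoc]
    rw [Function.comp_apply, Function.comp_apply, h.bg.rs_eq hP (S.rat h ξ hξ) h.bdr (hy _) ha (h4 ▸ gn_central hz e2), h4, rs, e1]
    exact hω ⟨_, hz⟩ _
  have h4 := inner_shift h3 (hω' ⟨_, hz'⟩) h0
  have h5 := inner_shift (hω' ⟨_, hz'⟩) (hω' ⟨_, hz'⟩) (by rw [classInner_irr_self ψ.2]; exact one_ne_zero)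
  exact mul_right_cancel₀ (right_ne_zero_of_mul_eq_one h4) (h4.trans h5.symm)

end crit

/-- the `r`-elements which commute with `A` and with the `l`-regular elements of `C_S(A)` -/
def Rz (hl : l.Prime) (hr : r.Prime) (hne : l ≠ r) (S A : Subgroup K) : Subgroup K where
  carrier := {y | y ∈ S ∧ (∃ k, orderOf y = r ^ k) ∧ y ∈ centralizer (A : Set K) ∧
    ∀ c ∈ S, c ∈ centralizer (A : Set K) → ¬ l ∣ orderOf c → Commute y c}
  one_mem' := ⟨one_mem _, ⟨0, orderOf_one⟩, one_mem _, fun _ _ _ _ => Commute.one_left _⟩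
  inv_mem' := fun ⟨h1, h2, h3, h4⟩ => ⟨inv_mem h1, by rwa [orderOf_inv], inv_mem h3, fun c a b d => (h4 c a b d).inv_left⟩
  mul_mem' := fun {a b} ⟨h1, ⟨i, h2⟩, h3, h4⟩ ⟨h5, ⟨j, h6⟩, h7, h8⟩ => ⟨mul_mem h1 h5, by
    have h9 := (h4 b h5 h7 (not_dvd_of_r hl hr hne ⟨j, h6⟩)).orderOf_mul_dvd_mul_orderOf
    rw [h2, h6, ← pow_add] at h9
    exact ((Nat.dvd_prime_pow hr).1 h9).imp fun _ h => h.2, mul_mem h3 h7, fun c x y z => (h4 c x y z).mul_left (h8 c x y z)⟩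

theorem rz_p (hl : l.Prime) (hr : r.Prime) (hne : l ≠ r) (S A : Subgroup K) : IsPGroup r (Rz hl hr hne S A) := fun y =>
  y.2.2.1.imp fun _ e => Subtype.ext (by rw [coe_pow, ← e, pow_orderOf_eq_one, coe_one])

theorem StS.of_fix {A : Subgroup K} (h : ∀ x ∈ A, α x = x) : StS α A := fun g =>
  ⟨fun e => by rwa [α.injective (h _ e)] at e, fun e => by rwa [h g e]⟩

theorem rz_st (hl : l.Prime) (hr : r.Prime) (hne : l ≠ r) {S A : Subgroup K} (hS : StS α S) (hA : StS α A) :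
    StS α (Rz hl hr hne S A) := fun g =>
  ⟨fun ⟨h1, h2, h3, h4⟩ => ⟨(hS g).1 h1, by rwa [α.orderOf_eq] at h2, (hA.cen g).1 h3, fun c a b d => α.injective (by
      rw [map_mul, map_mul]
      exact h4 _ ((hS c).2 a) ((hA.cen c).2 b) (by rwa [α.orderOf_eq]))⟩,
    fun ⟨h1, h2, h3, h4⟩ => ⟨(hS g).2 h1, by rwa [α.orderOf_eq], (hA.cen g).2 h3, fun c a b d => by
      simpa using (h4 (α.symm c) ((hS _).1 (by simpa using a)) ((hA.cen _).1 (by simpa using b)) (by rwa [α.symm.orderOf_eq])).map α⟩⟩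

/-- pairs below the block of `χ` -/
def Pr (l r : ℕ) (M : Ideal AlgInt) (α : MulAut K) (χ : K → ℂ) (P : Subgroup K) : Prop :=
  IsPGroup r P ∧ ∃ (hs : StS α P) (ψ : IrrCharacter (centralizer (P : Set K))), St hs.cen.res (ψ : centralizer (P : Set K) → ℂ) ∧
    Up l M (centralizer (P : Set K)).subtype ψ χ

theorem pr_of (U : BoxUp) {χ : K → ℂ} (hP : IsPGroup r P) (hs : StS α P) (e : Emb ι β α) (hL : ι.range = centralizer (P : Set K))
    {ψ : IrrCharacter L} (hψ : St β (ψ : L → ℂ)) (hu : Up l M ι ψ χ) : Pr l r M α χ P := by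
  have := Fintype.ofFinite (centralizer (P : Set K))
  let σ : L ≃* centralizer (P : Set K) := (MonoidHom.ofInjective e.inj).trans (MulEquiv.subgroupCongr hL)
  have hσ : ∀ y, (σ y : K) = ι y := fun _ => rfl
  refine ⟨hP, hs, ⟨(ψ : L → ℂ) ∘ σ.symm.toMonoidHom, isIrr_comp _ σ.symm.surjective ψ.2⟩, fun g => ?_,
    U.cj σ 1 (fun y => by simp [hσ]) (fun y => by simp) hu⟩
  obtain ⟨y, rfl⟩ := σ.surjective g
  rw [show hs.cen.res (σ y) = σ (β y) from Subtype.ext (e.cm y).symm]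
  simpa using hψ y

theorem boxMain_of (S : BoxSt) (U : BoxUp) (V : BoxUf) (C : BoxCur) (O : BoxOrb) (X : BoxBC) (T : BoxStart) (E : BoxDef) :
    BoxMain := by
  intro l r m n N K _ _ α M h hM B D A P₀ hB hBs hD hDs hA hP₀ hs₀ hA₀ hA₁ hF
  classical
  have := isPrime_of_isPModular hM
  have : Fact r.Prime := ⟨h.rp⟩
  have : Fact l.Prime := ⟨h.lp⟩
  obtain ⟨χ, rfl⟩ := hB
  have hχ := hBs χ (mem_blockOf_self χ)
  have h0 : Pr l r M α χ P₀ := by
    have hm : (A.subgroupOf (centralizer (P₀ : Set K))).map (centralizer (P₀ : Set K)).subtype = A := by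
      rw [subgroupOf_map_subtype, inf_eq_left.2 hA₀]
    obtain ⟨ψ, -, h1, h2, -⟩ := T h.toGl hM hs₀.cen.emb (by rw [range_subtype]; exact hF P₀ le_rfl hP₀ hs₀) χ D
      (A.subgroupOf (centralizer (P₀ : Set K))) hχ hD hDs (hm.symm ▸ hA) (by rw [hm, range_subtype]; exact hA₁)
    exact ⟨hP₀, hs₀, ψ, h1, h2⟩
  obtain ⟨P, hle, ⟨hP, hs, ψ₀, hψ₀, hu₀⟩, hmax⟩ := Finite.exists_le_maximal (p := Pr l r M α χ) h0
  have hF' := hF.mono hle
  have hv := hF' P le_rfl hP hs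
  let L := centralizer (P : Set K)
  have e := hs.cen.emb
  have h' := h.sub e
  have hL : L.subtype.range = centralizer (P : Set K) := range_subtype _
  have hstb := S.blk h'.toGl hM ψ₀ hψ₀
  have hup : ∀ ψ ∈ blockOf M (ψ₀ : L → ℂ), ∀ ξ ∈ blockOf M (χ : K → ℂ), Up l M L.subtype (ψ : L → ℂ) (ξ : K → ℂ) :=
    fun ψ h1 ξ h2 => U.congr hM h1 h2 hu₀
  obtain ⟨D₀, hD₀, hD₀s⟩ := S.dfg h'.toGl l M hM ψ₀ hψ₀
  set D' := D₀.map L.subtype
  have hD'L : D' ≤ L := map_subtype_le _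
  have hD'0 : D'.subgroupOf L = D₀ := comap_map_eq_self_of_injective (subtype_injective L) _
  have hfix : ∀ x ∈ D', α x = x := S.grp h.toGl D' ((isPGroup_of_isDefectGroup hD₀).map _) (hD₀s.map e)
  have hPL : P ≤ L := h.bg.ab' hP
  have hmx : ∀ A ≤ D', ∀ y ∈ L, (∃ k, orderOf y = r ^ k) → y ∈ centralizer (A : Set K) →
      (∀ c ∈ L, c ∈ centralizer (A : Set K) → ¬ l ∣ orderOf c → Commute y c) → y ∈ P := fun A hA y h1 h2 h3 h4 => by
    set P' := Rz h.lp h.rp h.ne L A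
    have hP' : IsPGroup r P' := rz_p _ _ _ _ _
    have hs' : StS α P' := rz_st _ _ _ hs.cen (StS.of_fix fun x hx => hfix x (hA hx))
    have h5 : P ≤ P' := fun x hx => ⟨hPL hx, ord_of_mem hP hx, fun a ha => (hD'L (hA ha) x hx).symm, fun c hc _ _ => hc x hx⟩
    have h6 : centralizer (P' : Set K) ≤ L := centralizer_le h5
    have h7 : A ≤ centralizer (P' : Set K) := fun a ha x hx => (hx.2.2.1 a ha).symm
    let κ := inclusion h6
    have eκ : Emb κ hs'.cen.res hs.cen.res := ⟨inclusion_injective h6, fun _ => rfl⟩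
    have hκ : κ.range = (centralizer (P' : Set K)).comap L.subtype := inclusion_range h6
    have hm : (A.subgroupOf (centralizer (P' : Set K))).map κ = A.subgroupOf L := by
      ext x
      exact ⟨fun ⟨z, hz, e1⟩ => e1 ▸ hz, fun hx => ⟨⟨x, h7 hx⟩, hx, rfl⟩⟩
    obtain ⟨ψ, -, h8, h9, -⟩ := T h'.toGl hM eκ (hκ ▸ (hF' P' h5 hP' hs').comap (subtype_injective L)
      (hL ▸ (centralizer_le (h.bg.ab' hP')).trans h6)) ψ₀ D₀ (A.subgroupOf (centralizer (P' : Set K))) hψ₀ hD₀ hD₀s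
      (by rw [hm, ← hD'0]; exact comap_mono hA) (by
        rw [hm, hκ]
        intro c hc hl x hx
        refine hx.2.2.2 c c.2 (fun a ha => ?_) (by rwa [orderOf_coe])
        exact congrArg Subtype.val (hc ⟨a, hD'L (hA ha)⟩ ha))
    exact hmax ⟨hP', hs', ψ, h8, U.trans hM eκ.inj h9 (subtype_injective L) hu₀⟩ h5 ⟨h1, h2, h3, h4⟩
  have hreg : ∀ y ∈ centralizer (D' : Set K), ¬ l ∣ orderOf y → y ∈ L := fun y hy hl => by
    obtain ⟨Q, h1, h2, h3⟩ := hv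
    refine h3 y (fun q hq => hy q ?_) hl
    have h4 : q ∈ L := fun x hx => (h2 (hPL hx) q hq).symm
    exact ⟨⟨q, h4⟩, cen_le_defect hM (isPBlock_blockOf ψ₀) hD₀ zs_le zs_p ⟨mem_center_iff.2 fun x =>
      Subtype.ext (h2 x.2 q hq).symm, by
        obtain ⟨k, hk⟩ := h1 ⟨q, hq⟩
        exact ⟨k, Subtype.ext (congrArg Subtype.val hk :)⟩⟩, rfl⟩
  have hnor : normalizer (D' : Set K) ≤ normalizer (P : Set K) := by
    have h1 : ∀ g ∈ normalizer (D' : Set K), ∀ y ∈ P, g * y * g⁻¹ ∈ P := fun g hg y hy => by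
      have h2 : ∀ g ∈ normalizer (D' : Set K), ∀ c ∈ centralizer (D' : Set K), g * c * g⁻¹ ∈ centralizer (D' : Set K) :=
        fun g hg c hc => (normal_subgroupOf_iff (centralizer_le_normalizer _)).1 inferInstance _ g hc hg
      have h3 : y ∈ centralizer (D' : Set K) := fun x hx => (hD'L hx y hy).symm
      have h4 : ∃ k, orderOf (g * y * g⁻¹) = r ^ k := by rw [ord_conj]; exact ord_of_mem hP hy
      refine hmx D' le_rfl _ (hreg _ (h2 g hg y h3) (not_dvd_of_r h.lp h.rp h.ne h4)) h4 (h2 g hg y h3) fun c _ hc hl => ?_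
      have h5 := hreg _ (h2 g⁻¹ (inv_mem hg) c hc) (by rwa [ord_conj]) y hy
      have h6 := congrArg (fun x => g * x * g⁻¹) h5
      simpa [Commute, SemiconjBy, mul_assoc] using h6
    exact fun g hg y => ⟨h1 g hg y, fun hy => by simpa [mul_assoc] using h1 g⁻¹ (inv_mem hg) _ hy⟩
  have hnc : normalizer (P : Set K) ≤ normalizer (L : Set K) := by
    have h1 : ∀ g ∈ normalizer (P : Set K), ∀ c ∈ L, g * c * g⁻¹ ∈ L :=
      fun g hg c hc => (normal_subgroupOf_iff (centralizer_le_normalizer _)).1 inferInstance _ g hc hg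
    exact fun g hg y => ⟨h1 g hg y, fun hy => by simpa [mul_assoc] using h1 g⁻¹ (inv_mem hg) _ hy⟩
  obtain ⟨D₁, h1, h2, h3⟩ := E hM ψ₀ χ hu₀ hv hD'L (hD'0.symm ▸ hD₀) hreg (hnor.trans hnc)
  have hov := fun ψ (hψ : ψ ∈ blockOf M (ψ₀ : L → ℂ)) => exists_over S V C hM h hP hs e hL hv hχ (hup ψ hψ χ (mem_blockOf_self χ))
  have htight : ∀ ψ ∈ blockOf M (ψ₀ : L → ℂ), Tight r L.subtype P (ψ : L → ℂ) := fun ψ hψ => by
    obtain ⟨ξ, h4, h5⟩ := hov ψ hψ
    refine (exists_root S O h hP e hL (hstb ψ hψ) fun a ha g =>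
      h.bg.rs_ker hP (S.rat h ξ (hBs ξ h4)) h.bdr e.inj hL ψ.2 h5 ha g).resolve_right ?_
    rintro ⟨P₁, h6, h7, h8, i, φ, -, h9⟩
    have h10 := X h' hM h6 h7 h7.cen.emb (range_subtype _) (fam_L h hP e hL hF' h8.le) (hstb ψ hψ) h9
    exact h8.not_ge (hmax (pr_of U (h6.map _) (h7.map e) (e.comp h7.cen.emb) (range_comp e.inj hL h8.le)
      (con_rs S h' h6 h7 h7.cen.emb (range_subtype _) (hstb ψ hψ) h9)
      (U.trans hM (subtype_injective _) h10 e.inj (hup ψ hψ χ (mem_blockOf_self χ)))) h8.le)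
  refine ⟨P, blockOf M (ψ₀ : L → ℂ), D', D₁, hle, hP, hs, hv, isPBlock_blockOf ψ₀, hstb, hup, hD'L, hD'0.symm ▸ hD₀, hfix, h1, h2,
    hmx, hnor, h3, htight, fun ψ hψ => ?_⟩
  obtain ⟨ξ, h4, h5⟩ := hov ψ hψ
  refine ⟨ξ, h4, fun z hz => cen_rs S h hP e hL (hBs ξ h4) h5 hz, fun h6 => ?_⟩
  rw [blockOf_eq_of_sameBlock (show SameBlock M (ψ₀ : L → ℂ) ψ from hψ)]
  exact crit_of S V C O hM h hP hs e hL hv (hBs ξ h4) (hup ψ hψ ξ h4) h5 (htight ψ hψ) (blockOf_eq_of_sameBlock h4 ▸ h6)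

end Cfsg.Agent.BZ.Lab
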