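import Cfsg.Agent.BZ.Lab.Defs
import Cfsg.Agent.H608.BrauerFeit
import Cfsg.Agent.Characters.GaloisIrr

/-!
# BZ / Lab: stability under an automorphism of a huge prime order (helper68)
-/

set_option autoImplicit false

namespace Cfsg.Agent.BZ.Lab

open Cfsg Subgroup Cfsg.Agent.HZ.Gen Cfsg.Agent.H662 Cfsg.Agent.Characters Cfsg.Agent.Characters.Core
  Cfsg.Agent.OddOrderCharacters.VChar Cfsg.Agent.H593.GlaubermanP
open scoped ComplexConjugate Pointwise

namespace Stb

section dyn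

variable {X : Type*} {f : X → X} {m : ℕ} {S : Set X}

/-- a small invariant set is fixed pointwise -/
theorem fix_of_small (hm : m.Prime) (hS : S.Finite) (h : Set.MapsTo f S S) (hf : ∀ x, f^[m] x = x) (hc : S.ncard < m) {x : X}
    (hx : x ∈ S) : f x = x := by
  have : Fact m.Prime := ⟨hm⟩
  by_contra h0
  have h1 := Function.iterate_injOn_Iio_minimalPeriod (f := f) (x := x)
  rw [Function.minimalPeriod_eq_prime (p := m) (hf x) h0] at h1
  have h2 := Set.ncard_le_ncard_of_injOn _ (fun k _ => h.iterate k hx) h1 hS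
  rw [← Finset.coe_Iio, Set.ncard_coe_finset, Nat.card_Iio] at h2
  omega

theorem exists_fix (hm : m.Prime) (hS : S.Finite) (h : Set.MapsTo f S S) (hf : ∀ x, f^[m] x = x) (hc : ¬ m ∣ S.ncard) :
    ∃ x ∈ S, f x = x := by
  classical
  have : Fact m.Prime := ⟨hm⟩
  have := hS.fintype
  let g : Function.End S := h.restrict f S S
  have h1 : g ^ m ^ 1 = 1 := by
    funext x
    rw [pow_one]
    refine Subtype.ext ?_
    have h2 : ∀ k : ℕ, ((g ^ k) x : X) = f^[k] x := fun k => by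
      induction k with
      | zero => rfl
      | succ k ih => rw [pow_succ', Function.iterate_succ_apply', ← ih]; rfl
    exact (h2 m).trans (hf x)
  have h2 := Equiv.Perm.card_fixedPoints_modEq h1
  by_contra h3
  rw [Fintype.card_eq_zero_iff (α := g.fixedPoints).2 ⟨fun x => h3 ⟨x.1, x.1.2, congrArg Subtype.val x.2⟩⟩,
    Nat.modEq_zero_iff_dvd, ← Nat.card_eq_fintype_card, Nat.card_coe_set_eq] at h2
  exact hc h2

end dyn

variable {l m N : ℕ} {K : Type} [Group K] {α : MulAut K}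

theorem iter_eq (k : ℕ) (x : K) : α^[k] x = (α ^ k) x := by
  induction k with
  | zero => rfl
  | succ k ih => rw [Function.iterate_succ_apply', pow_succ', MulAut.mul_apply, ih]

theorem tr_iter (k : ℕ) (ψ : IrrCharacter K) (x : K) : ((tr α)^[k] ψ : IrrCharacter K).1 ((α ^ k) x) = ψ.1 x := by
  induction k with
  | zero => rfl
  | succ k ih => rw [Function.iterate_succ_apply', pow_succ', MulAut.mul_apply, tr_apply_map, ih]

theorem tr_per (h : α ^ m = 1) (ψ : IrrCharacter K) : (tr α)^[m] ψ = ψ := Subtype.ext (funext fun x => by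
  have h1 := tr_iter (α := α) m ψ x
  rwa [h, MulAut.one_apply] at h1)

theorem tr_iff {ψ : IrrCharacter K} : tr α ψ = ψ ↔ St α (ψ : K → ℂ) :=
  ⟨fun h g => by rw [← tr_apply_map α ψ g, h], fun h => Subtype.ext (funext fun x => by
    rw [tr_apply, ← h, MulEquiv.apply_symm_apply])⟩

theorem trB_eq {M : Ideal AlgInt} {χ : IrrCharacter K} (h : St α (χ : K → ℂ)) :
    trB α (blockOf M (χ : K → ℂ)) = blockOf M (χ : K → ℂ) := by rw [trB_blockOf, tr_iff.2 h]

theorem lt_m (h : Gl l m N K α) : N ^ 2 + 1 < m := by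
  have h1 : 0 < N := (pow_pos h.lp.pos _).trans_le h.syl
  have h2 : N ^ 2 ≤ N ^ 4 := Nat.pow_le_pow_right h1 (by norm_num)
  have h3 := h.big
  nlinarith

variable [Fintype K]

theorem blk {M : Ideal AlgInt} (h : Gl l m N K α) (hM : IsPModular l M) (χ : IrrCharacter K) (hχ : St α (χ : K → ℂ)) :
    StB α (blockOf M (χ : K → ℂ)) := by
  have : Fact l.Prime := ⟨h.lp⟩
  have : Finite (IrrCharacter K) := finite_irr
  refine fun ψ hψ => tr_iff.1 (fix_of_small h.mp (Set.toFinite _) (fun ξ hξ => ?_) (tr_per h.pow) ?_ hψ)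
  · rw [← trB_eq hχ]
    exact (tr_mem_trB α _ ξ).2 hξ
  · have h1 := H608.BrauerFeit.card_le l hM (B := blockOf M (χ : K → ℂ)) ⟨χ, rfl⟩
    have h2 : l ^ (2 * blockDefect l (blockOf M (χ : K → ℂ))) ≤ N ^ 2 := by
      rw [pow_mul']
      exact Nat.pow_le_pow_left ((Nat.pow_le_pow_right h.lp.pos (Nat.sub_le _ _)).trans h.syl) 2
    have h3 := lt_m h
    rw [Nat.card_coe_set_eq] at h1
    omega

theorem inner_tr {f : K → ℂ} (hf : St α f) (ψ : IrrCharacter K) : classInner f (tr α ψ : K → ℂ) = classInner f ψ := by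
  rw [classInner_def, classInner_def, ← Equiv.sum_comp α.toEquiv]
  simp only [MulEquiv.toEquiv_eq_coe, MulEquiv.coe_toEquiv, tr_apply_map, hf _]

theorem con (h : Gl l m N K α) (f : K → ℂ) (hf : IsGeneralizedCharacter K f) (hs : St α f) (hn : (classInner f f).re < m)
    (ψ : IrrCharacter K) (hψ : classInner f ψ ≠ 0) : St α (ψ : K → ℂ) := by
  classical
  have : Finite (IrrCharacter K) := finite_irr
  have := Fintype.ofFinite (IrrCharacter K)
  refine tr_iff.1 (fix_of_small (S := {ξ : IrrCharacter K | classInner f ξ ≠ 0}) h.mp (Set.toFinite _)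
    (fun ξ hξ => by rwa [Set.mem_ofPred_eq, inner_tr hs]) (tr_per h.pow) ?_ hψ)
  choose c hc using fun ξ : IrrCharacter K => gen_inner hf (gen_of_irr ξ.2)
  have h1 : (classInner f f).re = ((∑ ξ, c ξ ^ 2 : ℤ) : ℝ) := by
    rw [classInner_eq_sum (gen_isClassFunction hf) (gen_isClassFunction hf), ← Complex.intCast_re]
    simp only [hc, map_intCast, Int.cast_sum, sq, Int.cast_mul]
  have h2 : (({ξ : IrrCharacter K | classInner f ξ ≠ 0}.ncard : ℕ) : ℤ) ≤ ∑ ξ, c ξ ^ 2 := by
    rw [Set.ncard_eq_toFinset_card', Set.toFinset_ofPred, Finset.card_filter, Nat.cast_sum]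
    refine Finset.sum_le_sum fun ξ _ => ?_
    split_ifs with h0
    · rw [hc, Int.cast_ne_zero] at h0
      exact sq_pos_of_ne_zero h0
    · exact sq_nonneg _
  rw [h1] at hn
  have h3 : ∑ ξ, c ξ ^ 2 < (m : ℤ) := by exact_mod_cast hn
  exact_mod_cast h2.trans_lt h3

theorem grp (h : Gl l m N K α) (Q : Subgroup K) (hQ : IsPGroup l Q) (hs : StS α Q) (x : K) (hx : x ∈ Q) : α x = x := by
  have : Fact l.Prime := ⟨h.lp⟩
  refine fix_of_small (f := α) (S := (Q : Set K)) h.mp (Set.toFinite _) (fun y hy => (hs y).2 hy)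
    (fun y => by rw [iter_eq, h.pow, MulAut.one_apply]) ?_ hx
  obtain ⟨k, hk⟩ := IsPGroup.iff_card.1 hQ
  have h1 : l ^ k ≤ N := (Nat.pow_le_pow_right h.lp.pos ((h.lp.pow_dvd_iff_le_factorization Nat.card_pos.ne').1
    (hk ▸ card_subgroup_dvd_card Q))).trans h.syl
  have h2 := lt_m h
  rw [← Nat.card_coe_set_eq]
  refine hk.le.trans_lt ?_
  nlinarith

theorem dfg (h : Gl l m N K α) (s : ℕ) (M : Ideal AlgInt) (hM : IsPModular s M) (χ : IrrCharacter K) (hχ : St α (χ : K → ℂ)) :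
    ∃ D, IsDefectGroup s M (blockOf M (χ : K → ℂ)) D ∧ StS α D := by
  have : Fact s.Prime := ⟨hM.1⟩
  have hB : IsPBlock M (blockOf M (χ : K → ℂ)) := ⟨χ, rfl⟩
  obtain ⟨D, hD⟩ := H592.Defect.exists_defectGroup s hM hB
  have h1 : {E | IsDefectGroup s M (blockOf M (χ : K → ℂ)) E} = MulAction.orbit (ConjAct K) D := by
    ext E
    refine ⟨fun hE => ?_, ?_⟩
    · obtain ⟨x, rfl⟩ := TID.Red.conj_defect hM hB hD hE
      exact ⟨ConjAct.toConjAct x, rfl⟩
    · rintro ⟨x, rfl⟩
      have h2 := isDefectGroup_trB (MulAut.conj (ConjAct.ofConjAct x)) hD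
      rw [trB_eq (fun g => isIrr_isClassFunction χ.2 g _)] at h2
      exact h2
  have h2 : ∀ (k : ℕ) (E : Subgroup K), (Subgroup.map α.toMonoidHom)^[k] E = E.map (α ^ k).toMonoidHom := fun k E => by
    induction k with
    | zero => exact (map_id E).symm
    | succ k ih => rw [Function.iterate_succ_apply', ih, map_map, pow_succ']; rfl
  obtain ⟨E, hE, e⟩ := exists_fix (f := Subgroup.map α.toMonoidHom)
    (S := {E | IsDefectGroup s M (blockOf M (χ : K → ℂ)) E}) h.mp (Set.toFinite _)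
    (fun E hE => by
      have h3 := isDefectGroup_trB α hE
      rwa [trB_eq hχ] at h3)
    (fun E => by rw [h2, h.pow]; exact map_id E)
    (fun hd => h.cop (hd.trans (by rw [h1, ← MulAction.index_stabilizer]; exact index_dvd_card _)))
  refine ⟨E, hE, fun g => ?_⟩
  conv_lhs => rw [← e]
  exact mem_map_iff_mem (f := α.toMonoidHom) α.injective

theorem rat {r n : ℕ} (h : Fr l r m n N K α) (χ : IrrCharacter K) (hχ : St α (χ : K → ℂ)) : Sm r 1 (χ : K → ℂ) := by
  classical
  have : Fact m.Prime := ⟨h.mp⟩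
  have : Fact r.Prime := ⟨h.rp⟩
  let H : Subgroup K := α.toMonoidHom.eqLocus (MonoidHom.id K)
  have hS := LV.Lift.setup (ι := H.subtype) h.pow (subtype_injective H)
    (fun g => ⟨fun e => ⟨⟨g, e⟩, rfl⟩, fun ⟨c, e⟩ => e ▸ c.2⟩) fun hd => h.cop (hd.trans (card_subgroup_dvd_card H))
  have hr : ¬ r ∣ Nat.card H := fun hd => by
    obtain ⟨g, hg⟩ := exists_prime_orderOf_dvd_card' r hd
    have h1 := h.fix g g.2
    rw [Subgroup.orderOf_coe, hg] at h1
    exact absurd h.mr h1.not_gt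
  refine ⟨gen_of_irr χ.2, by rw [classInner_irr_self χ.2]; simp, ratR_of_fix (gen_of_irr χ.2) hr fun σ hσ g => ?_⟩
  obtain ⟨M, hM⟩ := Cfsg.Agent.Blocks.ExistsModular.exists_isPModular h.mp
  obtain ⟨β, hβ⟩ := exists_beta hS hM χ
  obtain ⟨k, hk⟩ := exists_mult (ι := H.subtype) χ β
  let χ' : IrrCharacter K := ⟨fun g => σ ((χ : K → ℂ) g), GaloisIrr.isIrr_map σ χ.2⟩
  have h1 : ∀ c, σ (conj ((β : H → ℂ) c)) = conj ((β : H → ℂ) c) := fun c => by
    rw [← isCharacter_apply_inv (isIrr_isCharacter β.2),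
      GaloisBasic.map_apply_card σ (m := 1) (fun z hz => by rw [hσ z hz, pow_one]) (isIrr_isCharacter β.2), pow_one]
  have h2 : classInner ((χ' : K → ℂ) ∘ H.subtype) (β : H → ℂ) = k := by
    rw [← map_natCast σ k, ← hk, classInner_def, classInner_def, map_mul, map_inv₀, map_natCast, map_sum]
    simp only [map_mul, h1]
    rfl
  have h3 : χ' = χ := unique_chi hS hM (LV.Lift.inv_zpowers _ fun g => congrArg σ (hχ g)) (LV.Lift.inv_zpowers _ hχ)
    (fun e => hβ ((good_iff hS hM hk).2 ((good_iff hS hM h2).1 e))) hβ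
  exact congrFun (congrArg Subtype.val h3) g

end Stb

/-- **[St]** -/
theorem boxSt : BoxSt := ⟨Stb.blk, Stb.con, Stb.grp, Stb.dfg, Stb.rat⟩

end Cfsg.Agent.BZ.Lab
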