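import Cfsg.Agent.BZ.Lab.W1
import Cfsg.Agent.KM.BK.B
import Cfsg.Agent.H658.Major
import Cfsg.Agent.H658.Domin
import Cfsg.Agent.H623.GLn.D4A
import Cfsg.Agent.H829.GowDesc
import Cfsg.Agent.CharactersDeep.ModCongr
import Cfsg.Agent.S0908
import Cfsg.Agent.S0917
import Cfsg.Agent.S0973
import Cfsg.Agent.S4431

/-!
# BZ / Lab: the theorem of Glauberman and Watanabe (helper94)

* `cut` : the cut-off function of a central element of order `l`; `Sit.ind` : compatibility with Brauer induction from `C(z)`;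
* `dfg` : the defect groups (induction over centralisers and central quotients); `boxW_of`.
-/

set_option autoImplicit false
set_option linter.unusedSectionVars false

namespace Cfsg.Agent.BZ.Lab

open Cfsg Subgroup Cfsg.Agent.HZ.Gen Cfsg.Agent.Characters.Core Cfsg.Agent.OddOrderCharacters.VChar
  Cfsg.Agent.H593.GlaubermanP Cfsg.Agent.Blocks Cfsg.Agent.Blocks.Local Cfsg.Agent.Blocks.PPart
open Cfsg.Agent.H644.CentralQuot (defl infl isPBlock_defl exists_mem_defl)
open scoped ComplexConjugate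

namespace W

section cut

variable {l q : ℕ} [hl : Fact l.Prime] {M : Ideal AlgInt} {G : Type} [Group G] [Fintype G] {t y v : G}

/-- `q` on the elements whose `l`-part is a non-trivial power of `t` -/
noncomputable def cut (l q : ℕ) (t y : G) : ℂ := ∑ i ∈ Finset.Ico 1 l, lam l q ((t ^ i)⁻¹ * y)

theorem cut_hom {G' : Type} [Group G'] {i : G →* G'} (hi : Function.Injective i) (t y : G) :
    cut l q (i t) (i y) = cut l q t y :=
  Finset.sum_congr rfl fun k _ => by rw [← map_pow, ← map_inv, ← map_mul, lam_hom hi]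

theorem ord_pow (ht : orderOf t = l) (i : ℕ) : ∃ k, orderOf (t ^ i) = l ^ k :=
  ((Nat.dvd_prime_pow (m := 1) hl.out).1 (by rw [pow_one, ← ht]; exact orderOf_pow_dvd i)).imp fun _ h => h.2

open Classical in
theorem cut_eq (hc : t ∈ center G) (ht : orderOf t = l) (h : IsPPart l y v) :
    cut l q t y = if v ∈ zpowers t ∧ v ≠ 1 then (q : ℂ) else 0 := by
  have h1 : ∀ i, lam l q ((t ^ i)⁻¹ * y) = if t ^ i = v then (q : ℂ) else 0 := fun i => by
    rw [lam, ← ite_not]
    refine if_congr ⟨fun e => isPPart_unique ⟨_, mul_inv_cancel_left _ _,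
      (mem_center_iff.1 (pow_mem hc i) _).symm, ord_pow ht i, e⟩ h, ?_⟩ rfl rfl
    rintro rfl
    obtain ⟨w, h2, -, -, h3⟩ := h
    rwa [← h2, inv_mul_cancel_left]
  simp only [cut, h1]
  split_ifs with e
  · obtain ⟨i, h2, rfl⟩ := Finset.mem_image.1 (mem_zpowers_iff_mem_range_orderOf.1 e.1)
    rw [Finset.mem_range] at h2
    rw [Finset.sum_eq_single_of_mem i (Finset.mem_Ico.2 ⟨Nat.pos_of_ne_zero fun e' => e.2 (by rw [e', pow_zero]), ht ▸ h2⟩), if_pos rfl]
    exact fun k hk e' => if_neg fun e'' => e' (pow_injOn_Iio_orderOf (ht ▸ (Finset.mem_Ico.1 hk).2) h2 e'')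
  · refine Finset.sum_eq_zero fun k hk => if_neg fun e' : t ^ k = v => e ⟨e' ▸ pow_mem (mem_zpowers t) k, ?_⟩
    rw [Finset.mem_Ico] at hk
    exact e' ▸ pow_ne_one_of_lt_orderOf (by omega) (ht ▸ hk.2)

theorem cut_gen (hc : t ∈ center G) (ht : orderOf t = l) : IsGeneralizedCharacter G (cut l (qq l G) t) := by
  classical
  have := KM.BK.zpowers_normal hc
  obtain ⟨a, h1, h2⟩ := exists_ind (l := l) (zpowers t) dvd_rfl
  obtain ⟨b, h3, h4⟩ := exists_ind (l := l) (⊥ : Subgroup G) dvd_rfl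
  suffices cut l (qq l G) t = a - b from this ▸ gen_sub h1 h3
  funext y
  obtain ⟨v, hv⟩ := exists_isPPart l y
  rw [cut_eq hc ht hv, Pi.sub_apply, h2 y v hv, h4 y v hv]
  by_cases e : v = 1
  · simp [e]
  · simp [e]

theorem gen_pow (ht : orderOf t = l) (h : v ∈ zpowers t) (h1 : v ≠ 1) : t ∈ zpowers v := by
  obtain ⟨i, rfl⟩ := (Submonoid.mem_powers_iff _ _).1 (mem_powers_iff_mem_zpowers.2 h)
  refine mem_zpowers_pow_iff.2 (ht ▸ ((Nat.Prime.coprime_iff_not_dvd hl.out).2 fun e => h1 ?_).symm)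
  exact orderOf_dvd_iff_pow_eq_one.1 (ht ▸ e)

theorem cen_mem (t : G) : (⟨t, mem_cen.2 (Commute.refl t)⟩ : centralizer {t}) ∈ center (centralizer ({t} : Set G)) :=
  mem_center_iff.2 fun z => Subtype.ext (mem_cen.1 z.2)

theorem cut_norm (ht : orderOf t = l) [Fintype (centralizer ({t} : Set G))] (χ : IrrCharacter G) {N : ℕ} (hq : q ≤ N) (hN : l ≤ N)
    {s : centralizer ({t} : Set G)} (hs : (s : G) = t) :
    (classInner (cut l q s * (χ : G → ℂ) ∘ (centralizer {t}).subtype) (cut l q s * (χ : G → ℂ) ∘ (centralizer {t}).subtype)).re ≤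
      (N ^ 3 : ℕ) := by
  classical
  obtain rfl : s = ⟨t, mem_cen.2 (Commute.refl t)⟩ := Subtype.ext hs
  have h0 := (orderOf_mk t (mem_cen.2 (Commute.refl t))).trans ht
  refine (norm_le (q := q) (c := l) (fun y => ?_) ?_).trans
    (Nat.cast_le.2 (pow_succ N 2 ▸ Nat.mul_le_mul (Nat.pow_le_pow_left hq 2) hN))
  · obtain ⟨v, hv⟩ := exists_isPPart l y
    rw [cut_eq (cen_mem t) h0 hv]
    split_ifs <;> simp
  · have h1 := sum_sec (l := l) t (Basic.irr_isClassFunction χ.2)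
    rw [classInner_irr_self χ.2, Complex.one_re, mul_one, ht, Nat.cast_mul] at h1
    simp only [Function.comp_apply]
    rw [← Finset.sum_image (f := fun g => ‖(χ : G → ℂ) g‖ ^ 2) (subtype_injective _).injOn]
    refine (Finset.sum_le_sum_of_subset_of_nonneg (fun x hx => ?_) fun _ _ _ => sq_nonneg _).trans h1
    obtain ⟨x, hx', rfl⟩ := Finset.mem_image.1 hx
    obtain ⟨v, hv⟩ := exists_isPPart l x
    have h2 := (Finset.mem_filter.1 hx').2
    rw [cut_eq (cen_mem t) h0 hv] at h2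
    obtain ⟨⟨i, hi⟩, h3⟩ := of_not_not fun e => h2 (if_neg e)
    obtain ⟨k, hk⟩ := gen_pow h0 ⟨i, hi⟩ h3
    refine Finset.mem_filter.2 ⟨Finset.mem_univ _, fun w hw => ?_⟩
    rw [isPPart_unique hw (isPPart_coe hv)]
    exact ⟨⟨i, congrArg Subtype.val hi⟩, k, congrArg Subtype.val hk⟩

theorem cut_inner {η : G → ℂ} {w : ℕ → ℂ} (h : ∀ i g, η (t ^ i * g) = w i * η g) (f : G → ℂ) :
    classInner (cut l q t * f) η = ∑ i ∈ Finset.Ico 1 l, conj (w i) * classInner (lam l q * fun v => f (t ^ i * v)) η := by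
  rw [show cut l q t * f = ∑ i ∈ Finset.Ico 1 l, fun y => lam l q ((t ^ i)⁻¹ * y) * f y from
    funext fun y => by rw [Pi.mul_apply, cut, Finset.sum_mul, Finset.sum_apply], classInner_sum_left]
  refine Finset.sum_congr rfl fun i _ => ?_
  rw [classInner_def, classInner_def, ← Equiv.sum_comp (Equiv.mulLeft (t ^ i)), mul_left_comm, Finset.mul_sum _ _ (conj (w i))]
  refine congrArg _ (Finset.sum_congr rfl fun g _ => ?_)
  rw [Equiv.coe_mulLeft, inv_mul_cancel_left, h, map_mul, Pi.mul_apply]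
  ring

/-- a converse of the second main theorem -/
theorem cut_ne (hM : IsPModular l M) (ht : orderOf t = l) [Fintype (centralizer ({t} : Set G))]
    {b : Set (IrrCharacter (centralizer ({t} : Set G)))} {B : Set (IrrCharacter G)} (hb : IsInducedBlock M _ b B)
    {χ : IrrCharacter G} (hχ : χ ∈ B) (h0 : blockHeight l B (χ : G → ℂ) = 0) {s : centralizer ({t} : Set G)} (hs : (s : G) = t) :
    ∃ η ∈ b, classInner (cut l (qq l (centralizer ({t} : Set G))) s * (χ : G → ℂ) ∘ (centralizer {t}).subtype) η ≠ 0 := by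
  have := isPrime_of_isPModular hM
  obtain rfl : s = ⟨t, mem_cen.2 (Commute.refl t)⟩ := Subtype.ext hs
  set s : centralizer ({t} : Set G) := ⟨t, mem_cen.2 (Commute.refl t)⟩
  have hc : s ∈ center _ := cen_mem t
  have := KM.BK.zpowers_normal hc
  obtain ⟨θ, hθ⟩ := exists_mem_defl (U := zpowers s) hM
    (IsPGroup.of_card (n := 1) (by rw [Nat.card_zpowers, orderOf_mk, ht, pow_one])) hb.1
  refine ⟨_, hθ, fun e => (S4431.result l M hM _ b B hb χ _ hθ).2 hχ h0 ?_⟩
  rw [cut_inner (w := fun _ => 1) fun i g => by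
    rw [one_mul]
    rw [← mem_center_iff.1 (pow_mem hc i) g]
    exact congrArg θ.1 (QuotientGroup.mk_mul_of_mem g (pow_mem (mem_zpowers s) i))] at e
  rw [← lam_mul]
  have h1 := Basic.irr_isClassFunction χ.2
  have h2 : ∀ i, IsClassFunction (centralizer ({t} : Set G)) fun v => (χ : G → ℂ) (s ^ i * v : centralizer ({t} : Set G)) :=
    fun i g h => by
      beta_reduce
      rw [← mul_assoc, ← mul_assoc, ← mem_center_iff.1 (pow_mem hc i) h, mul_assoc h]
      exact h1 _ h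
  have h3 := h2 0
  simp only [pow_zero, one_mul] at h3
  have h4 := memLocalIdeal_sum (s := Finset.Ico 1 l) fun i _ => pr_ideal hM (infl _ θ)
    (f := (fun v => (χ : G → ℂ) (s ^ i * v : centralizer ({t} : Set G))) - fun v : centralizer ({t} : Set G) => (χ : G → ℂ) v)
    (fun g h => congrArg₂ (· - ·) (h2 i g h) (h3 g h)) fun g hg => by
      have h4 := CharactersDeep.ModCongr.memLocalIdeal_character_sub hM χ.2 _ _
        (isPPart_mul ((mem_cen.1 g.2).symm.pow_left i) (ord_pow ht i) (by rwa [orderOf_coe]))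
      rwa [inv_mul_cancel_left] at h4
  simp only [mul_sub, classInner_sub_left, sub_div, Finset.sum_sub_distrib, ← Finset.sum_div, map_one, one_mul,
    Function.comp_apply, coe_subtype] at h4 e
  rw [e, Finset.sum_const, Nat.card_Ico, nsmul_eq_mul, Nat.cast_pred hl.out.pos] at h4
  have h5 := memLocalIdeal_add h4 (memLocalIdeal_mul_right (memLocalIdeal_p hM) (pr_ring hM (infl _ θ) h3 fun g => memLocalRing_irr χ g))
  convert h5 using 1
  ring

theorem ind_of_cut (hM : IsPModular l M) (ht : orderOf t = l) [Fintype (centralizer ({t} : Set G))] (χ : IrrCharacter G)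
    {B : Set (IrrCharacter G)} (hB : IsPBlock M B) (hχ : χ ∈ B) {s : centralizer ({t} : Set G)} (hs : (s : G) = t)
    (η : IrrCharacter (centralizer ({t} : Set G))) (h : classInner (cut l q s * (χ : G → ℂ) ∘ (centralizer {t}).subtype) η ≠ 0) :
    IsInducedBlock M _ (blockOf M (η : centralizer ({t} : Set G) → ℂ)) B := by
  have := isPrime_of_isPModular hM
  obtain rfl : s = ⟨t, mem_cen.2 (Commute.refl t)⟩ := Subtype.ext hs
  choose w hw using fun i => H644.CentralQuot.exists_scalar_center η (pow_mem (cen_mem t) i)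
  rw [cut_inner (w := w) fun i g => by rw [← mem_center_iff.1 (pow_mem (cen_mem t) i) g, hw]] at h
  obtain ⟨i, hi, h1⟩ := Finset.exists_ne_zero_of_sum_ne_zero h
  rw [Finset.mem_Ico] at hi
  obtain ⟨k, hk⟩ := gen_pow ht (pow_mem (mem_zpowers t) i) (pow_ne_one_of_lt_orderOf (by omega) (ht ▸ hi.2))
  rw [lam_reg, classInner_smul_left] at h1
  exact H623.GLn.induced_of_pairing hM (ord_pow ht i) (Subgroup.ext fun g => by
    rw [mem_cen, mem_cen]
    exact ⟨fun e => e.pow_right i, fun e => hk ▸ e.zpow_right k⟩) hB hχ (Basic.isPBlock_blockOf η) (Basic.mem_blockOf_self η)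
    (right_ne_zero_of_mul (right_ne_zero_of_mul h1))

end cut

variable {l m N : ℕ} {M : Ideal AlgInt} {K H : Type} [Group K] [Fintype K] [Group H] [Fintype H] {α : MulAut K} {j : H →* K}
  {χ : IrrCharacter K} {ξ : IrrCharacter H}

namespace Sit

theorem fx (S : Sit l m N α j) (y : H) : α (j y) = j y := (S.fix _).2 ⟨y, rfl⟩

theorem cen (S : Sit l m N α j) (z : H) : ∃ (γ : MulAut (centralizer {j z})) (i : centralizer {z} →* centralizer {j z}),
    Sit l m N γ i ∧ (∀ y, (γ y : K) = α y) ∧ ∀ y, (i y : K) = j y := by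
  have h : StS α (centralizer {j z}) := fun g => by
    rw [mem_cen, mem_cen]
    conv_lhs => rw [← S.fx z]
    exact ⟨Commute.of_map α.injective, fun e => e.map α⟩
  refine ⟨h.res, (j.comp (centralizer {z}).subtype).codRestrict _ fun y => mem_cen.2 ((mem_cen.1 y.2).map j),
    ⟨S.gl.sub h.emb, fun a b e => Subtype.ext (S.inj (congrArg Subtype.val e)), fun g => ⟨fun e => ?_, ?_⟩⟩, fun _ => rfl, fun _ => rfl⟩
  · obtain ⟨y, hy⟩ := (S.fix g).1 (congrArg Subtype.val e)
    exact ⟨⟨y, mem_cen.2 (Commute.of_map S.inj (hy ▸ mem_cen.1 g.2))⟩, Subtype.ext hy⟩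
  · rintro ⟨y, rfl⟩
    exact Subtype.ext (S.fx y)

theorem quot (S : Sit l m N α j) (Z : Subgroup H) [Z.Normal] [(Z.map j).Normal] :
    ∃ (β : MulAut (K ⧸ Z.map j)) (i : H ⧸ Z →* K ⧸ Z.map j), Sit l m N β i ∧ (∀ g : K, β g = α g) ∧ ∀ y : H, i y = j y := by
  have h : (Z.map j).map (α : K →* K) = Z.map j := by
    rw [map_map]
    exact congrArg (Z.map ·) (MonoidHom.ext S.fx)
  let β : MulAut (K ⧸ Z.map j) := QuotientGroup.congr _ _ α h
  have h1 : ∀ (n : ℕ) (g : K), (β ^ n) g = (α ^ n) g := fun n g => by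
    induction n with
    | zero => rfl
    | succ n ih => rw [pow_succ', pow_succ', MulAut.mul_apply, MulAut.mul_apply, ih]; rfl
  have h2 := card_quotient_dvd_card (Z.map j)
  refine ⟨β, QuotientGroup.map _ _ j (le_comap_map j Z), ⟨⟨S.gl.lp, S.gl.mp, MulEquiv.ext fun g => ?_, fun e => S.gl.cop (e.trans h2),
    (Nat.pow_le_pow_right S.gl.lp.pos ((Nat.factorization_le_iff_dvd Nat.card_pos.ne' Nat.card_pos.ne').2 h2 l)).trans S.gl.syl,
    S.gl.big⟩, (injective_iff_map_eq_one _).2 fun y e => ?_, fun g => ⟨fun e => ?_, ?_⟩⟩, fun _ => rfl, fun _ => rfl⟩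
  · obtain ⟨g, rfl⟩ := QuotientGroup.mk_surjective g
    rw [h1, S.gl.pow]
    rfl
  · obtain ⟨y, rfl⟩ := QuotientGroup.mk_surjective y
    exact (QuotientGroup.eq_one_iff _).2 ((mem_map_iff_mem S.inj).1 ((QuotientGroup.eq_one_iff _).1 e))
  · obtain ⟨g, rfl⟩ := QuotientGroup.mk_surjective g
    obtain ⟨w, -, hw⟩ := QuotientGroup.eq.1 (show (g : K ⧸ Z.map j) = α g from e.symm)
    have h3 : ∀ n : ℕ, (α ^ n) g = g * j (w ^ n) := fun n => by
      induction n with
      | zero => simp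
      | succ n ih => rw [pow_succ', MulAut.mul_apply, ih, map_mul, S.fx, pow_succ', map_mul, hw, ← mul_assoc, mul_inv_cancel_left]
    have h4 := h3 m
    rw [S.gl.pow, MulAut.one_apply, left_eq_mul, map_pow] at h4
    have h5 : j w = 1 := orderOf_eq_one_iff.1 (((Nat.dvd_prime S.gl.mp).1 (orderOf_dvd_of_pow_eq_one h4)).resolve_right
      fun e => S.gl.cop (e ▸ orderOf_dvd_natCard _))
    obtain ⟨y, hy⟩ := (S.fix g).1 (by rw [← pow_one α, h3, pow_one, h5, mul_one])
    exact ⟨y, congrArg _ hy⟩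
  · rintro ⟨y, rfl⟩
    obtain ⟨y, rfl⟩ := QuotientGroup.mk_surjective y
    exact congrArg QuotientGroup.mk (S.fx y)

/-- **compatibility with Brauer induction from the centraliser of an element of order `l`** -/
theorem ind (hS : BoxSt) (S : Sit l m N α j) (hM : IsPModular l M) {z : H} (hz : orderOf z = l) [Fintype (centralizer ({z} : Set H))]
    [Fintype (centralizer ({j z} : Set K))] {γ : MulAut (centralizer {j z})} {i : centralizer {z} →* centralizer {j z}}
    (S' : Sit l m N γ i) (hγ : ∀ y, (γ y : K) = α y) (hi : ∀ y, (i y : K) = j y) {b : Set (IrrCharacter (centralizer ({z} : Set H)))}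
    (hb : IsInducedBlock M _ b (blockOf M (ξ : H → ℂ))) (h : Gc m α j χ ξ) : ∃ η ∈ b, ∃ η', Gc m γ i η' η ∧
      IsInducedBlock M _ (blockOf M (η' : centralizer ({j z} : Set K) → ℂ)) (blockOf M (χ : K → ℂ)) := by
  have := Fact.mk S.gl.lp
  have := isPrime_of_isPModular hM
  obtain ⟨ξ₀, h1, h2⟩ := HeightZeroSection.exists_height_zero ⟨ξ, Basic.mem_blockOf_self (M := M) ξ⟩ l
  obtain ⟨χ₀, h3⟩ := S.up ξ₀
  let s : centralizer ({z} : Set H) := ⟨z, mem_cen.2 (Commute.refl z)⟩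
  obtain ⟨η, h4, h5⟩ := cut_ne hM hz hb h1 h2 (s := s) rfl
  obtain ⟨η', h6⟩ := S'.up η
  have h7 : orderOf (j z) = l := (orderOf_injective j S.inj z).trans hz
  have h8 : l ≤ N := le_trans (by
    conv_lhs => rw [← pow_one l]
    exact Nat.pow_le_pow_right S.gl.lp.pos ((S.gl.lp.dvd_iff_one_le_factorization Nat.card_pos.ne').1 (h7 ▸ orderOf_dvd_natCard _))) S.gl.syl
  have h9 : i s = ⟨j z, mem_cen.2 (Commute.refl _)⟩ := Subtype.ext (hi s)
  obtain ⟨ε, h10, h11⟩ := S.key S' (κ' := (centralizer {j z}).subtype) (κ := (centralizer {z}).subtype) hγ hi h3 h6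
    (cut_gen (t := i s) (h9 ▸ cen_mem _) (by rw [h9, orderOf_mk, h7]))
    (fun g => by conv_lhs => rw [← S'.fx s]; exact cut_hom (i := γ.toMonoidHom) γ.injective _ g) (cut_hom S'.inj s) S.cube
    (cut_norm h7 χ₀ S'.gl.syl h8 (hi s)) (cut_norm hz ξ₀ S'.gl.syl h8 rfl)
  refine ⟨η, h4, η', h6, ind_of_cut hM h7 χ₀ (Basic.isPBlock_blockOf χ) ((S.same hS hM h h3).2 h1) (hi s) η' (h11 ▸ mul_ne_zero ?_ ?_)⟩
  · exact Int.cast_ne_zero.2 (by omega)
  · rwa [show qq l _ = qq l _ from congrArg (l ^ ·) (S'.card hS)] at h5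

end Sit

/-- **the defect groups** -/
theorem dfg (hS : BoxSt) (hM : IsPModular l M) (n : ℕ) : ∀ {K H : Type} [Group K] [Fintype K] [Group H] [Fintype H] {α : MulAut K}
    {j : H →* K}, Nat.card K = n → Sit l m N α j → ∀ {χ : IrrCharacter K} {ξ : IrrCharacter H} {D : Subgroup H}, Gc m α j χ ξ →
      IsDefectGroup l M (blockOf M (ξ : H → ℂ)) D → IsDefectGroup l M (blockOf M (χ : K → ℂ)) (D.map j) := by
  induction n using Nat.strong_induction_on with
  | _ n ih =>
  intro K H _ _ _ _ α j hn S χ ξ D h hD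
  subst hn
  have := Fact.mk S.gl.lp
  have := isPrime_of_isPModular hM
  have hB := Basic.isPBlock_blockOf (M := M) ξ
  have hB' := Basic.isPBlock_blockOf (M := M) χ
  suffices ∃ E, IsDefectGroup l M (blockOf M (χ : K → ℂ)) E ∧ D.map j ≤ E by
    obtain ⟨E, h1, h2⟩ := this
    refine (eq_of_le_of_card_ge h2 (le_of_eq ?_)).symm ▸ h1
    rw [card_map_of_injective S.inj, S0908.result l M hM _ hB' E h1, S0908.result l M hM _ hB D hD, blockDefect, blockDefect,
      S.card hS]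
    exact congrArg (fun s => l ^ (_ - sInf s)) (S.img hS hM h)
  obtain ⟨E, hE⟩ := H644.exists_isDefectGroup hM hB'
  by_cases h0 : D = ⊥
  · exact ⟨E, hE, by rw [h0, Subgroup.map_bot]; exact bot_le⟩
  have := (nontrivial_iff_ne_bot D).2 h0
  have hp := Basic.isPGroup_of_isDefectGroup hD
  have := hp.center_nontrivial
  obtain ⟨⟨⟨z, hzD⟩, hzc⟩, hz⟩ := exists_prime_orderOf_dvd_card' (G := center D) l
    ((hp.to_subgroup _).card_eq_or_dvd.resolve_left Finite.one_lt_card.ne')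
  rw [orderOf_mk, orderOf_mk] at hz
  replace hzc : ∀ w ∈ D, z * w = w * z := fun w hw => (congrArg Subtype.val (mem_center_iff.1 hzc ⟨w, hw⟩)).symm
  by_cases hc : j z ∈ center K
  · have h1 : z ∈ center H := mem_center_iff.2 fun y => S.inj (by rw [map_mul, map_mul, mem_center_iff.1 hc])
    have := KM.BK.zpowers_normal h1
    have h2 : (zpowers z).map j ≤ center K := by rwa [MonoidHom.map_zpowers, zpowers_le]
    have : ((zpowers z).map j).Normal := (MonoidHom.map_zpowers j z).symm ▸ KM.BK.zpowers_normal hc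
    have h3 : IsPGroup l (zpowers z) := hp.to_le (zpowers_le.2 hzD)
    obtain ⟨β, i, S', h4, h5⟩ := S.quot (zpowers z)
    have := Fintype.ofFinite (H ⧸ zpowers z)
    have := Fintype.ofFinite (K ⧸ (zpowers z).map j)
    have h6 := isPBlock_defl hM (zpowers_le.2 h1) h3 hB
    have h7 := (H658.isDefectGroup_defl hM (zpowers_le.2 h1) h3 hB hD).2
    obtain ⟨θ, hθ⟩ := exists_mem_defl hM h3 hB
    obtain ⟨θ', h8⟩ := S'.up θ
    have h9 : Gc m α j (infl _ θ') (infl _ θ) := ⟨fun g => (congrArg (θ' : _ → ℂ) (h4 g)).symm.trans (h8.1 g), h8.2.imp fun k hk => ⟨hk.1, by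
      rw [← hk.2, ← H829.GowDesc.classInner_comp_surj (QuotientGroup.mk' _) (QuotientGroup.mk'_surjective _)]
      exact congrArg (classInner · _) (funext fun y => congrArg (θ' : _ → ℂ) (h5 y).symm)⟩⟩
    have h10 := isPBlock_defl hM h2 (h3.map j) hB'
    rw [Basic.isPBlock_eq_of_mem h6 (Basic.isPBlock_blockOf θ) hθ (Basic.mem_blockOf_self θ)] at h7
    have h11 := ih _ (by
      rw [← ((zpowers z).map j).index_eq_card, ← ((zpowers z).map j).index_mul_card, card_map_of_injective S.inj, Nat.card_zpowers, hz]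
      exact lt_mul_of_one_lt_right (Nat.pos_of_ne_zero FiniteIndex.index_ne_zero) S.gl.lp.one_lt) rfl S' h8 h7
    rw [← Basic.isPBlock_eq_of_mem h10 (Basic.isPBlock_blockOf θ') ((S.same hS hM h h9).2 hθ) (Basic.mem_blockOf_self θ')] at h11
    obtain ⟨x, hx⟩ := TID.Red.conj_defect hM h10 (H658.isDefectGroup_defl hM h2 (h3.map j) hB' hE).2 h11
    obtain ⟨y, rfl⟩ := QuotientGroup.mk'_surjective _ x
    have hE' := Basic.isDefectGroup_conj hE y
    refine ⟨_, hE', ?_⟩
    rw [← comap_map_eq_self (f := QuotientGroup.mk' ((zpowers z).map j)) (H := E.map _) (by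
      rw [QuotientGroup.ker_mk']; exact (H658.isDefectGroup_defl hM h2 (h3.map j) hB' hE').1), ← map_le_iff_le_comap]
    refine le_of_eq (Eq.trans ?_ (hx.symm.trans ?_))
    · rw [map_map, map_map]
      exact congrArg (D.map ·) (MonoidHom.ext fun y => (h5 y).symm)
    · rw [map_map, map_map]
      rfl
  · have := Fintype.ofFinite (centralizer ({z} : Set H))
    have := Fintype.ofFinite (centralizer ({j z} : Set K))
    obtain ⟨b₀, -, h1⟩ := (S0973.result l M hM _ hB D hD).1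
    obtain ⟨b, -, h2, h3, -⟩ := H658.exists_major hM hD hzD hzc h1
    obtain ⟨γ, i, S', h4, h5⟩ := S.cen z
    obtain ⟨η, h6, η', h7, h8⟩ := S.ind hS hM hz S' h4 h5 h2 h
    rw [Basic.isPBlock_eq_of_mem h2.1 (Basic.isPBlock_blockOf η) h6 (Basic.mem_blockOf_self η)] at h3
    have h9 := ih _ (Finite.card_subtype_lt (x := Classical.choose (not_forall.1 (mt mem_center_iff.2 hc)))
      fun e => Classical.choose_spec (not_forall.1 (mt mem_center_iff.2 hc)) (mem_cen.1 e)) rfl S' h7 h3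
    obtain ⟨E', h10, h11⟩ := S0917.result l M hM _ _ h8.1 _ hB' h8 _ h9
    refine ⟨E', h10, le_trans ?_ h11⟩
    rintro _ ⟨y, hy, rfl⟩
    exact ⟨_, ⟨⟨y, mem_cen.2 (hzc y hy).symm⟩, hy, rfl⟩, h5 _⟩

end W

/-- **Glauberman - Watanabe** -/
theorem boxW_of (hS : BoxSt) : BoxW := by
  intro l m N K H _ _ _ _ α M j hG hM hj hf B D hB hD
  have S : W.Sit l m N α j := ⟨hG, hj, hf⟩
  have := isPrime_of_isPModular hM
  obtain ⟨ξ₀, rfl⟩ := hB
  obtain ⟨e, h1, h2, h3⟩ := S.bij
  have h4 := hS.blk hG hM (e ξ₀) (h2 ξ₀).1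
  have h5 : e '' blockOf M (ξ₀ : H → ℂ) = blockOf M (e ξ₀ : K → ℂ) := Set.ext fun χ =>
    ⟨fun ⟨ξ, h5, h6⟩ => h6 ▸ (S.same hS hM (h2 ξ₀) (h2 ξ)).2 h5, fun h5 => by
      obtain ⟨ξ, rfl⟩ := h3 χ (h4 χ h5)
      exact ⟨ξ, (S.same hS hM (h2 ξ₀) (h2 ξ)).1 h5, rfl⟩⟩
  refine ⟨e, h1, ?_⟩
  rw [h5]
  refine ⟨⟨_, rfl⟩, h4, W.dfg hS hM _ rfl S (h2 ξ₀) hD, fun ξ _ => ⟨?_, (h2 ξ).2⟩⟩
  exact congrArg₂ (fun a s => a - sInf s) (S.deg hS hM (h2 ξ)) (S.img hS hM (h2 ξ₀))

end Cfsg.Agent.BZ.Lab
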