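import Cfsg.Agent.BZ.Lab.Defs
import Cfsg.Agent.CharactersDeep.ModCongr

/-!
# BZ / Lab: sections and the congruence of Curtis type (helper83)

* `boxSec_of` : the values of a stable character on the section of a fixed `l`-element;
* `boxCur_of` : the restriction along generic elements is congruent to the ordinary restriction on the `l`-regular elements.
-/

set_option autoImplicit false
set_option linter.unusedSectionVars false

namespace Cfsg.Agent.BZ.Lab

open Cfsg Subgroup Cfsg.Agent.HZ.Gen Cfsg.Agent.KM Cfsg.Agent.Blocks.PPart Cfsg.Agent.OddOrderCharacters.VChar Cfsg.Agent.Characters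
  Cfsg.Agent.H650 Cfsg.Agent.H662 Cfsg.Agent.Blocks.Basic Cfsg.Agent.Blocks.Local

namespace Cur

variable {H : Type*} [Group H] [Fintype H] {l r n B N : ℕ} [hl : Fact l.Prime] {M : Ideal AlgInt} {P : Subgroup H} {u : H} {χ : H → ℂ}

open Classical in
/-- the cut-off function of a central `l`-element -/
theorem exists_eps' (hu : u ∈ center H) (hu' : ∃ k, orderOf u = l ^ k) (hN : l ^ (Nat.card H).factorization l ∣ N) :
    ∃ ε : H → ℂ, IsGeneralizedCharacter H ε ∧
      ∀ g v, IsPPart l g v → ε g = if v ∈ zpowers u ∧ u ∈ zpowers v then (N : ℂ) else 0 := by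
  have h0 : ∀ k : ℕ, (zpowers (u ^ k)).Normal := fun k => ⟨fun y hy g => by
    rwa [mem_center_iff.1 (zpowers_le.2 (pow_mem hu k) hy) g, mul_inv_cancel_right]⟩
  have h1 := h0 1
  rw [pow_one] at h1
  have h2 := h0 l
  obtain ⟨ε, h3, h4⟩ := exists_ind (zpowers u) hN
  obtain ⟨ε', h5, h6⟩ := exists_ind (zpowers (u ^ l)) hN
  obtain ⟨k, hk⟩ := hu'
  by_cases h : u = 1
  · exact ⟨ε, h3, fun g v hg => by rw [h4 g v hg]; exact if_congr (and_iff_left (h ▸ one_mem _)).symm rfl rfl⟩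
  refine ⟨ε - ε', gen_sub h3 h5, fun g v hg => ?_⟩
  rw [Pi.sub_apply, h4 g v hg, h6 g v hg]
  by_cases h7 : v ∈ zpowers u
  · by_cases h8 : v ∈ zpowers (u ^ l)
    · rw [if_pos h7, if_pos h8, sub_self, if_neg fun h9 => ?_]
      have h10 := zpowers_le.2 h8 h9.2
      rw [mem_zpowers_pow_iff, hk] at h10
      exact h (orderOf_eq_one_iff.1 (hk.trans (Nat.Coprime.eq_one_of_dvd (Nat.Coprime.pow_right k (Nat.Coprime.symm h10)) dvd_rfl)))
    · rw [if_pos h7, if_neg h8, sub_zero]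
      refine (if_pos ⟨h7, ?_⟩).symm
      obtain ⟨m, rfl⟩ := (Submonoid.mem_powers_iff _ _).1 (mem_powers_iff_mem_zpowers.2 h7)
      refine mem_zpowers_pow_iff.2 (hk ▸ ((Nat.Prime.coprime_iff_not_dvd hl.out).2 ?_).symm.pow_right k)
      rintro ⟨m, rfl⟩
      exact h8 (pow_mul u l m ▸ pow_mem (mem_zpowers _) m)
  · rw [if_neg h7, if_neg fun h8 => h7 (zpowers_le.2 (pow_mem (mem_zpowers u) l) h8), sub_self, if_neg fun h8 => h7 h8.1]

/-- the norm of a cut-off restriction -/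
theorem nrm_le {C : Type*} [Group C] [Fintype C] {κ : C →* H} (hκ : Function.Injective κ) {t : C} (hC : κ.range = centralizer {κ t})
    (ht : orderOf t ≤ N) {ε : C → ℂ} (h1 : ∀ g, ‖ε g‖ ≤ N) (h2 : ∀ g v, IsPPart l g v → ε g ≠ 0 → v ∈ zpowers t ∧ t ∈ zpowers v)
    (hχ : IsIrrCharacter H χ) : (classInner (ε * χ ∘ κ) (ε * χ ∘ κ)).re ≤ (N ^ 3 : ℕ) := by
  classical
  have h0 : (0 : ℝ) < Nat.card C := Nat.cast_pos.2 Nat.card_pos
  refine le_of_mul_le_mul_left ?_ h0
  rw [← re_inner]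
  calc ∑ x, ‖(ε * χ ∘ κ) x‖ ^ 2 ≤ ∑ x with ε x ≠ 0, (N : ℝ) ^ 2 * ‖χ (κ x)‖ ^ 2 := by
        rw [Finset.sum_filter]
        refine Finset.sum_le_sum fun x _ => ?_
        rw [Pi.mul_apply, norm_mul, mul_pow]
        split_ifs with h
        · exact mul_le_mul_of_nonneg_right (pow_le_pow_left₀ (norm_nonneg _) (h1 x) 2) (sq_nonneg _)
        · simp [not_not.1 h]
    _ ≤ N ^ 2 * (Nat.card C * N : ℕ) := by
        rw [← Finset.mul_sum, ← Finset.sum_image (f := fun g => ‖χ g‖ ^ 2) hκ.injOn]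
        refine mul_le_mul_of_nonneg_left ((Finset.sum_le_sum_of_subset_of_nonneg (fun x hx => ?_) fun _ _ _ => sq_nonneg _).trans
          ((sum_sec (l := l) (κ t) (Core.isIrr_isClassFunction hχ)).trans ?_)) (sq_nonneg _)
        · obtain ⟨x, hx', rfl⟩ := Finset.mem_image.1 hx
          obtain ⟨v, hv⟩ := exists_isPPart l x
          obtain ⟨⟨i, hi⟩, j, hj⟩ := h2 x v hv (Finset.mem_filter.1 hx').2
          refine Finset.mem_filter.2 ⟨Finset.mem_univ _, fun w hw => ?_⟩
          rw [isPPart_unique hw (isPPart_map κ hκ hv)]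
          exact ⟨⟨i, (map_zpow κ _ _).symm.trans (congrArg κ hi)⟩, j, (map_zpow κ _ _).symm.trans (congrArg κ hj)⟩
        · rw [Core.classInner_irr_self hχ, Complex.one_re, mul_one, ← hC, ← Nat.card_congr (MonoidHom.ofInjective hκ).toEquiv,
            orderOf_injective κ hκ]
          exact Nat.cast_le.2 (Nat.mul_le_mul_left _ ht)
    _ = _ := by push_cast; ring

/-- a generalized character does not see the `l`-part -/
theorem gen_congr (hM : IsPModular l M) (hχ : IsGeneralizedCharacter H χ) {x y : H} (hc : Commute x y)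
    (hx : ∃ j, orderOf x = l ^ j) (hy : ¬ l ∣ orderOf y) : MemLocalIdeal M (χ (x * y) - χ y) := by
  have := isPrime_of_isPModular hM
  have := @Fintype.ofFinite _ (Core.finite_irr (G := H))
  obtain ⟨m, rfl⟩ := Core.isGeneralizedCharacter_iff.1 hχ
  rw [Finset.sum_apply, Finset.sum_apply]
  refine memLocalIdeal_sum_sub_sum fun ψ _ => ?_
  rw [Pi.smul_apply, Pi.smul_apply, zsmul_eq_mul, zsmul_eq_mul, ← mul_sub]
  have h1 := CharactersDeep.ModCongr.memLocalIdeal_character_sub hM ψ.2 (x * y) x ⟨y, rfl, hc, hx, hy⟩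
  rw [inv_mul_cancel_left] at h1
  exact memLocalIdeal_mul_left (memLocalRing_intCast _) h1

/-- the difference of the two restrictions does not see the `l`-part -/
theorem rs_congr [Fact r.Prime] (hM : IsPModular l M) (hB : Big H r n) (hP : IsPGroup r P) (hχ : Sm r B χ) (hb : bd n B < r) {x y : H}
    (h1 : x ∈ centralizer (P : Set H)) (h2 : y ∈ centralizer (P : Set H)) (hc : Commute x y) (hx : ∃ j, orderOf x = l ^ j)
    (hy : ¬ l ∣ orderOf y) : MemLocalIdeal M (rs r P χ (x * y) - χ (x * y)) ↔ MemLocalIdeal M (rs r P χ y - χ y) := by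
  classical
  have := isPrime_of_isPModular hM
  have h3 := memLocalIdeal_sub (gen_congr hM (hB.rs_gen hP hχ hb (subtype_injective _) (range_subtype _)) (x := ⟨x, h1⟩) (y := ⟨y, h2⟩)
    (Subtype.ext hc.eq) (by rwa [orderOf_mk]) (by rwa [orderOf_mk])) (gen_congr hM hχ.gen hc hx hy)
  exact memLocalIdeal_iff_of_sub (by rw [sub_sub_sub_comm]; exact h3)

theorem mem_cen_sub {C A : Subgroup H} (h : A ≤ C) {y : C} :
    y ∈ centralizer (A.subgroupOf C : Set C) ↔ (y : H) ∈ centralizer (A : Set H) :=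
  ⟨fun e a ha => congrArg Subtype.val (e ⟨a, h ha⟩ ha), fun e a ha => Subtype.ext (e a ha)⟩

/-- the `l`-elements of the centre of a subgroup -/
def lz (l : ℕ) (S : Subgroup H) : Subgroup H where
  carrier := {t | t ∈ S ∧ t ∈ centralizer (S : Set H) ∧ ∃ k, t ^ l ^ k = 1}
  one_mem' := ⟨one_mem _, one_mem _, 0, one_pow _⟩
  mul_mem' := fun {a b} ⟨h1, h2, i, h3⟩ ⟨h4, h5, j, h6⟩ => ⟨mul_mem h1 h4, mul_mem h2 h5, i + j, by
    rw [Commute.mul_pow (h5 a h1), pow_add, pow_mul, h3, mul_comm, pow_mul, h6, one_pow, one_pow, mul_one]⟩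
  inv_mem' := fun ⟨h1, h2, i, h3⟩ => ⟨inv_mem h1, inv_mem h2, i, by rw [inv_pow, h3, inv_one]⟩

end Cur

open Cur

/-- **sections** -/
theorem boxSec_of (hSt : BoxSt) (hUp : BoxUp) : BoxSec := by
  intro l m N K C _ _ _ _ α γ κ M hG hM e t ht ht' hC ξ hξ
  classical
  have := Fact.mk hG.lp
  have := isPrime_of_isPModular hM
  have := Core.finite_irr (G := C)
  have := Fintype.ofFinite (IrrCharacter C)
  have hm : ∀ y, Commute y t := fun y => e.inj (by
    rw [map_mul, map_mul]; exact mem_cen.1 (hC ▸ ⟨y, rfl⟩ : κ y ∈ centralizer {κ t}))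
  have h1 := gen_comp κ (gen_of_irr ξ.2)
  choose c hc using fun η : IrrCharacter C => gen_inner h1 (gen_of_irr η.2)
  let A : Set (IrrCharacter C) → Prop := fun b => ∃ v, ¬ l ∣ orderOf v ∧ blockPart b ((ξ : K → ℂ) ∘ κ) (t * v) ≠ 0
  refine ⟨Finset.univ.filter fun η => A (blockOf M (η : C → ℂ)), c, fun η hη => ?_, fun v hv => ?_⟩
  · obtain ⟨v, hv, h2⟩ := (Finset.mem_filter.1 hη).2
    constructor
    · obtain ⟨ε, h3, h4⟩ := exists_eps' (N := l ^ (Nat.card C).factorization l) (mem_center_iff.2 fun y => (hm y).eq) ht' dvd_rfl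
      have h5 := (hG.sub e).syl
      have h6 : St γ ε := fun g => by
        obtain ⟨w, hw⟩ := exists_isPPart l g
        have h6 : ∀ a b : C, γ a ∈ zpowers (γ b) ↔ a ∈ zpowers b := fun a b => by
          simp only [mem_zpowers_iff, ← map_zpow, γ.apply_eq_iff_eq]
        rw [h4 g w hw, h4 (γ g) (γ w) (isPPart_map γ.toMonoidHom γ.injective hw)]
        exact if_congr (by rw [← h6 w t, ← h6 t w, ht]) rfl rfl
      have h7 := nrm_le (l := l) (N := N) e.inj hC (ε := ε) (le_trans (by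
        obtain ⟨k, hk⟩ := ht'
        rw [hk]
        exact Nat.pow_le_pow_right hG.lp.pos ((hG.lp.pow_dvd_iff_le_factorization Nat.card_pos.ne').1 (hk ▸ orderOf_dvd_natCard t))) h5)
        (fun g => by
          obtain ⟨w, hw⟩ := exists_isPPart l g
          rw [h4 g w hw]
          split_ifs
          · rw [Complex.norm_natCast]
            exact Nat.cast_le.2 h5
          · simp)
        (fun g w hw h => by_contra fun h7 => h (by rw [h4 g w hw, if_neg h7])) ξ.2
      have h8 := hSt.con (hG.sub e) _ (gen_mul h3 h1) (fun g => congrArg₂ (· * ·) (h6 g) (hξ.comp e g)) (h7.trans_lt (Nat.cast_lt.2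
        (lt_of_le_of_lt (by nlinarith [Nat.pow_le_pow_right ((pow_pos hG.lp.pos _).trans_le h5) (show 3 ≤ 4 by norm_num)]) hG.big)))
      by_contra h9
      have h10 := (S0925.result l M hM).1 _ (gen_isClassFunction (gen_sub (gen_mul h3 h1)
        (gen_nsmul (l ^ (Nat.card C).factorization l) h1))) t ht' (fun w z hw hz => by
          obtain ⟨x, rfl⟩ := isConj_iff.1 hz
          rw [(hm x).eq, mul_inv_cancel_right] at hw
          rw [Pi.sub_apply, Pi.mul_apply, h4 w t hw, if_pos ⟨mem_zpowers t, mem_zpowers t⟩, Pi.smul_apply, nsmul_eq_mul, sub_self])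
        _ (isPBlock_blockOf η) _ t (isPPart_mul (hm v).symm ht' hv) (IsConj.refl t)
      refine h2 (mul_left_cancel₀ (neg_ne_zero.2 (Nat.cast_ne_zero.2 (pow_pos hG.lp.pos ((Nat.card C).factorization l)).ne'))
        (Eq.trans ?_ (h10.trans (mul_zero _).symm)))
      simp only [blockPart_eq_sum_filter, Finset.sum_apply, Finset.mul_sum]
      refine Finset.sum_congr rfl fun ψ hψ => ?_
      rw [Core.classInner_sub_left, classInner_nsmul_left, not_not.1 fun h => h9 (hSt.blk (hG.sub e) hM ψ (h8 ψ h) η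
        (sameBlock_symm (Finset.mem_filter.1 hψ).2)), Pi.smul_apply, Pi.smul_apply, smul_eq_mul, smul_eq_mul]
      ring
    · let f := MonoidHom.ofInjective e.inj
      refine hUp.cj (ι := κ.range.subtype) f.symm 1 (fun y => ?_) (ψ := tr f η) (fun _ => rfl)
        (hUp.ind (by_contra fun hn => h2 ?_) _ ((tr_mem_trB f _ η).2 (mem_blockOf_self (M := M) η)) ξ (mem_blockOf_self (M := M) ξ))
      · rw [one_mul, inv_one, mul_one]
        exact congrArg Subtype.val (f.apply_symm_apply y)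
      · have h3 := nagao hM (K := κ.range) (u := f t) (by rwa [MulEquiv.orderOf_eq]) hC.ge (isPBlock_blockOf ξ) (mem_blockOf_self ξ)
          (isPBlock_trB f (isPBlock_blockOf η)) hn (y := f v) ((hm v).map f) (by rwa [MulEquiv.orderOf_eq])
        rwa [← map_mul, bp_tr] at h3
  · refine (congrFun (wSum_one M (gen_isClassFunction h1)) (t * v)).symm.trans ?_
    rw [wSum_congr hM (ω' := fun b => if A b then 1 else 0) fun b _ => or_iff_not_imp_right.2 fun h => (if_pos ⟨v, hv, h⟩).symm,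
      wSum_eq, Finset.sum_apply, Finset.sum_filter]
    refine Finset.sum_congr rfl fun η _ => ?_
    rw [Pi.smul_apply, smul_eq_mul, hc]
    split_ifs <;> simp

/-- **the congruence** -/
theorem boxCur_of (hSt : BoxSt) (hSec : BoxSec) : BoxCur := by
  intro l r m n N K _ _ α M hF hM
  have := Fact.mk hF.lp
  have := Fact.mk hF.rp
  have := isPrime_of_isPModular hM
  induction hc : Nat.card K using Nat.strong_induction_on generalizing K with | _ c ih => ?_
  intro P hP hs ⟨Q, hQ, h1, h2⟩ ξ hξ v hv hv'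
  classical
  have h3 := hF.bg.ab' hP
  have h4 : ∀ x ∈ Q, x ∈ centralizer (centralizer (P : Set K) : Set K) := fun x hx y hy => (h1 hy x hx).symm
  by_cases h : lz l (centralizer (P : Set K)) ≤ center K
  · rw [hF.bg.curtis' hP (hSt.rat hF ξ hξ) hF.bdr hF.ne (isPPart_of_not_dvd hv') (one_mem _) (fun y _ hy => h2 y (fun x hx =>
      (mem_center_iff.1 (h ⟨fun a ha => h4 x hx a (h3 ha), h4 x hx, (hQ ⟨x, hx⟩).imp fun _ e => congrArg Subtype.val e⟩) y).symm) hy)
      hF.syl (by rw [mul_one]; exact hF.big.trans hF.mr), sub_self]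
    exact memLocalIdeal_zero
  obtain ⟨t, ht, h5⟩ := SetLike.not_le_iff_exists.1 h
  have h6 : α t = t := hSt.grp hF.toGl (lz l _) (fun x => x.2.2.2.imp fun _ e => Subtype.ext e) (fun g => and_congr (hs.cen g)
    (and_congr (hs.cen.cen g) (exists_congr fun k => by rw [← map_pow, α.map_eq_one_iff]))) t ht
  obtain ⟨h7, h8, k, h9⟩ := ht
  have h10 : ∃ j, orderOf t = l ^ j := ((Nat.dvd_prime_pow hF.lp).1 (orderOf_dvd_of_pow_eq_one h9)).imp fun _ e => e.2
  let C := centralizer ({t} : Set K)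
  have hC : StS α C := fun g => by
    simp only [C, mem_centralizer_singleton_iff]
    rw [← α.apply_eq_iff_eq (x := g * t), map_mul, map_mul, h6]
  have h11 : centralizer (P : Set K) ≤ C := fun y hy => mem_cen.2 (h8 y hy)
  have h12 : Q ≤ C := fun x hx => mem_cen.2 (h1 h7 x hx)
  have h13 := h3.trans h11
  have hF' := hF.sub hC.emb
  have hP' : IsPGroup r (P.subgroupOf C) := hP.comap_subtype
  obtain ⟨S, d, h14, h15⟩ := hSec hF.toGl hM hC.emb ⟨t, h11 h7⟩ (Subtype.ext h6) (by rwa [orderOf_mk]) (range_subtype _) ξ hξ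
  have h16 : Commute t v := (h8 v hv).symm
  obtain ⟨a, ha, h17⟩ := hF.bg.exists_gn hP (by have := two_mul_lt hF.bdr; omega) (mul_mem h7 hv)
  have h18 : a * (t * v) = t * (a * v) := by rw [← mul_assoc, h7 a ha, mul_assoc]
  have h19 : ¬ l ∣ orderOf (⟨a * v, mul_mem (h13 ha) (h11 hv)⟩ : C) := fun e => by
    obtain ⟨i, hi⟩ := ord_of_mem hP ha
    rw [orderOf_mk] at e
    rcases (Nat.Prime.dvd_mul hF.lp).1 (e.trans (Commute.orderOf_mul_dvd_mul_orderOf (hv a ha))) with e | e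
    · exact hF.ne ((Nat.prime_dvd_prime_iff_eq hF.lp hF.rp).1 (hF.lp.dvd_of_dvd_pow (hi ▸ e)))
    · exact hv' e
  have h20 : ¬ l ∣ orderOf (⟨v, h11 hv⟩ : C) := by rwa [orderOf_mk]
  refine (rs_congr hM hF.bg hP (hSt.rat hF ξ hξ) hF.bdr h7 hv h16 h10 hv').1 ?_
  rw [hF.bg.rs_eq hP (hSt.rat hF ξ hξ) hF.bdr (mul_mem h7 hv) ha h17, h18]
  refine (congrArg _ (congrArg₂ (· - ·) (h15 _ h19) (h15 _ h20))).mpr (memLocalIdeal_sum_sub_sum fun η hη => ?_)
  have h21 := hSt.rat hF' η (h14 η hη).1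
  have h22 := (mem_cen_sub h13 (y := ⟨t, h11 h7⟩)).2 h7
  have h23 := (mem_cen_sub h13 (y := ⟨v, h11 hv⟩)).2 hv
  rw [← mul_sub, show (⟨t, h11 h7⟩ * ⟨a * v, _⟩ : C) = ⟨a, h13 ha⟩ * (⟨t, h11 h7⟩ * ⟨v, h11 hv⟩) from Subtype.ext h18.symm,
    ← hF'.bg.rs_eq hP' h21 hF.bdr (mul_mem h22 h23) ha ((gn_map (subtype_injective C) (K := centralizer (P : Set K))
      (g := ⟨a, h13 ha⟩ * (⟨t, h11 h7⟩ * ⟨v, h11 hv⟩)) h17).mono fun y hy => (mem_cen_sub h13).2 hy)]
  refine memLocalIdeal_mul_left (memLocalRing_intCast _) ((rs_congr hM hF'.bg hP' h21 hF.bdr h22 h23 (Subtype.ext h16.eq)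
    (by rwa [orderOf_mk]) h20).2 (ih _ ?_ hF' rfl _ hP' (hs.comap hC.emb) ⟨Q.subgroupOf C, hQ.comap_subtype, fun y hy =>
      (mem_cen_sub h12).2 (h1 ((mem_cen_sub h13).1 hy)), fun y hy hy' => (mem_cen_sub h13).2
        (h2 y ((mem_cen_sub h12).1 hy) (by rwa [orderOf_coe]))⟩ η (h14 η hη).1 _ h23 h20))
  rw [← hc]
  exact Finite.card_subtype_lt (x := (not_forall.1 (mt mem_center_iff.2 h5)).choose) fun e =>
    (not_forall.1 (mt mem_center_iff.2 h5)).choose_spec (mem_cen.1 e)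

end Cfsg.Agent.BZ.Lab
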