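import Cfsg.Agent.BZ.Lab.Up
import Cfsg.Agent.H589.TildeHeight
import Cfsg.Agent.S0962
import Cfsg.Agent.DL.Lef.Rat

/-!
# BZ / Lab: the height functional (helper19)
-/

set_option autoImplicit false
set_option linter.unusedSectionVars false

namespace Cfsg.Agent.BZ.Lab

open Cfsg Subgroup Cfsg.Agent.Blocks Cfsg.Agent.Blocks.LocalRing Cfsg.Agent.H589.Tilde Cfsg.Agent.H589.TildeHeight
open scoped ComplexConjugate Classical

namespace Om

variable {l : ℕ} {M : Ideal AlgInt} {K L : Type} [Group K] [Fintype K] [Group L] [Fintype L]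

/-- the regular part, at the inverse -/
noncomputable def rg (l : ℕ) (f : L → ℂ) : L → ℂ := fun y => if l ∣ orderOf y then 0 else f y⁻¹

theorem uf_eq {ψ : L → ℂ} (hψ : IsIrrCharacter L ψ) (f : L → ℂ) : uf l ψ f = om ψ (rg l f) := by
  rw [uf, Finset.sum_filter]
  refine Fintype.sum_equiv (Equiv.inv L) _ _ fun y => ?_
  rw [Equiv.inv_apply, rg, orderOf_inv, inv_inv, Orthogonality.irr_apply_inv hψ, mul_div_assoc]
  split_ifs <;> simp

theorem rg_cls {f : L → ℂ} (hf : IsClassFunction L f) : IsClassFunction L (rg l f) := fun g h => by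
  rw [rg, rg, ← ord_eq (isConj_iff.2 ⟨h, rfl⟩), conj_inv, hf]

theorem rg_ring (hM : IsPModular l M) {f : L → ℂ} (hf : IsGeneralizedCharacter L f) (y : L) : MemLocalRing M (rg l f y) := by
  unfold rg
  split_ifs
  exacts [memLocalRing_zero hM, memLocalRing_of_isIntegral hM (DL.Lef.isIntegral_of_generalized hf _)]

theorem uf_pair (ψ χ : IrrCharacter L) : uf l (ψ : L → ℂ) χ = Blau.pair l (ψ : L → ℂ) χ / (ψ : L → ℂ) 1 := by
  rw [uf_eq ψ.2, om, Blau.pair_def, Finset.sum_div]
  refine Finset.sum_congr rfl fun y _ => ?_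
  rw [rg, Orthogonality.irr_apply_inv χ.2, mul_div_assoc]
  rfl

end Om

open Om OddOrderCharacters.VChar in
theorem boxUf : BoxUf where
  cong := fun hM ψ f hf h => by
    have := hM.2.1.isPrime
    rw [uf_eq ψ.2, om_eq (Basic.irr_isClassFunction ψ.2) (rg_cls hf)]
    refine memLocalIdeal_sum hM _ _ fun c _ => memLocalIdeal_mul_right hM ?_ (S0962.centralChar_mem _ ψ _)
    unfold rg
    split_ifs with e
    exacts [memLocalIdeal_zero hM, h _ (by rwa [orderOf_inv])]
  blk := fun hM ψ ψ' f hf h => by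
    rw [uf_eq ψ.2, uf_eq ψ'.2]
    exact om_same hM h (rg_cls (gen_isClassFunction hf)) (rg_ring hM hf)
  up := fun {l _ _ _ _ _ _ _ ι} hM hι ψ χ f hf h => by
    rw [uf_eq ψ.2, uf_eq χ.2, memLocalIdeal_sub_comm, show rg l (f ∘ ι) = rg l f ∘ ι from funext fun y => by
      simp only [rg, Function.comp_apply, orderOf_injective ι hι, map_inv]]
    exact push hM (Basic.irr_isClassFunction χ.2) (rg_cls (gen_isClassFunction hf)) (rg_ring hM hf) fun x hx =>
      h x fun e => hx (if_pos e)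
  int := fun hM ψ f hf => by
    have := hM.2.1.isPrime
    rw [uf_eq ψ.2, om_eq (Basic.irr_isClassFunction ψ.2) (rg_cls (gen_isClassFunction hf))]
    exact memLocalRing_sum hM _ _ fun c _ => memLocalRing_mul hM (rg_ring hM hf _) (S0962.centralChar_mem _ ψ _)
  oth := fun {l _ _ _ _} hM ψ χ h => by
    have := hM.2.1.isPrime
    have := Fact.mk hM.1
    have h1 := coef_spec l ψ χ
    rw [coef_eq_zero l hM (Basic.isPBlock_blockOf ψ) (Basic.mem_blockOf_self ψ) h, classInner_tilde, Int.cast_zero,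
      mul_eq_zero_iff_left (Nat.cast_ne_zero.2 (pow_pos hM.1.pos _).ne'),
      mul_eq_zero_iff_left (inv_ne_zero (Nat.cast_ne_zero.2 Nat.card_pos.ne'))] at h1
    rw [uf_pair, h1, zero_div]
  ht := fun {l _ _ _ _} hM ψ χ h => by
    have := hM.2.1.isPrime
    have := Fact.mk hM.1
    rw [uf_pair, memLocalIdeal_pair_div_iff l hM]
    exact ⟨height_zero_of_not_dvd l hM (Basic.isPBlock_blockOf ψ) (Basic.mem_blockOf_self ψ), fun e =>
      not_dvd_of_height_zero l hM (Basic.isPBlock_blockOf ψ) h e (Basic.mem_blockOf_self ψ)⟩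

end Cfsg.Agent.BZ.Lab
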