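import Cfsg.Agent.BZ.Lab.Defs
import Cfsg.Agent.H649.PairInduced
import Cfsg.Agent.H710.Gow.Star
import Cfsg.Agent.Blocks.Over
import Cfsg.Agent.Blocks.PRegular
import Cfsg.Agent.Blocks.Orthogonality

/-!
# BZ / Lab: the relation `Up` (helper19)
-/

set_option autoImplicit false
set_option linter.unusedSectionVars false

namespace Cfsg.Agent.BZ.Lab

open Cfsg Subgroup Cfsg.Agent.Blocks Cfsg.Agent.Blocks.LocalRing
open scoped ComplexConjugate Classical

namespace Om

variable {l : ℕ} {M : Ideal AlgInt} {K L : Type} [Group K] [Fintype K] [Group L] [Fintype L]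

/-- the central character at a class function -/
noncomputable def om (ψ f : L → ℂ) : ℂ := ∑ y, f y * (ψ y / ψ 1)

/-- the induced central character -/
noncomputable def ic (ι : L →* K) (ψ : L → ℂ) (x : K) : ℂ := ∑ᶠ y ∈ {y | IsConj x (ι y)}, ψ y / ψ 1

/-- the indicator function of a class -/
noncomputable def cl (x : K) : K → ℂ := fun y => if IsConj x y then 1 else 0

theorem cl_cls (x : K) : IsClassFunction K (cl x) := fun _ h =>
  if_congr ⟨fun e => e.trans (isConj_iff.2 ⟨h, rfl⟩).symm, fun e => e.trans (isConj_iff.2 ⟨h, rfl⟩)⟩ rfl rfl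

theorem cl_ring (hM : IsPModular l M) (x y : K) : MemLocalRing M (cl x y) := by
  unfold cl
  split_ifs
  exacts [memLocalRing_one hM, memLocalRing_zero hM]

theorem cl_ne {x y : K} (h : cl x y ≠ 0) : IsConj x y := by_contra fun e => h (if_neg e)

theorem comp_cls {f : K → ℂ} (hf : IsClassFunction K f) (ι : L →* K) : IsClassFunction L (f ∘ ι) := fun g h => by
  simp only [Function.comp_apply, map_mul, map_inv, hf _ _]

theorem ord_eq {x y : K} (h : IsConj x y) : orderOf x = orderOf y := by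
  obtain ⟨c, rfl⟩ := isConj_iff.1 h
  exact ((MulAut.conj c).orderOf_eq x).symm

theorem ic_eq (ι : L →* K) (ψ : L → ℂ) (x : K) : ic ι ψ x = om ψ (cl x ∘ ι) := by
  rw [ic, finsum_mem_def, finsum_eq_sum_of_fintype]
  refine Finset.sum_congr rfl fun y _ => ?_
  rw [Set.indicator_apply, Function.comp_apply, cl, ite_mul, one_mul, zero_mul]
  rfl

theorem ic_id {ψ : K → ℂ} (hψ : IsClassFunction K ψ) (x : K) : ic (MonoidHom.id K) ψ x = centralChar ψ x := by
  rw [ic, finsum_mem_congr rfl (g := fun _ => ψ x / ψ 1) fun y hy => by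
      obtain ⟨c, rfl⟩ := isConj_iff.1 (show IsConj x y from hy)
      rw [hψ],
    finsum_mem_eq_finite_toFinset_sum _ (Set.toFinite _), Finset.sum_const, nsmul_eq_mul, Basic.centralChar_def,
    Basic.index_centralizer_eq_ncard, mul_div_assoc, Set.ncard_eq_toFinset_card _ (Set.toFinite _)]

theorem om_comp (ι : L →* K) (ψ : L → ℂ) {f : K → ℂ} (hf : IsClassFunction K f) :
    om ψ (f ∘ ι) = ∑ c : ConjClasses K, f c.out * ic ι ψ c.out := by
  simp only [ic_eq, om, Finset.mul_sum]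
  rw [Finset.sum_comm]
  refine Finset.sum_congr rfl fun y _ => ?_
  have h1 : ∀ c : ConjClasses K, IsConj c.out (ι y) ↔ c = ConjClasses.mk (ι y) := fun c => by
    rw [← ConjClasses.mk_eq_mk_iff_isConj, show ConjClasses.mk c.out = c from Quotient.out_eq c]
  rw [Finset.sum_eq_single (ConjClasses.mk (ι y)) (fun c _ hc => by
    rw [Function.comp_apply, cl, if_neg (mt (h1 c).1 hc), zero_mul, mul_zero]) (by simp)]
  obtain ⟨c, hc⟩ := isConj_iff.1 ((h1 _).2 rfl)
  rw [Function.comp_apply, Function.comp_apply, cl, if_pos ((h1 _).2 rfl), one_mul,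
    ← (hf _ c).symm.trans (congrArg f hc)]

theorem om_eq {ψ f : K → ℂ} (hψ : IsClassFunction K ψ) (hf : IsClassFunction K f) :
    om ψ f = ∑ c : ConjClasses K, f c.out * centralChar ψ c.out := by
  simp only [← ic_id hψ]
  exact om_comp (MonoidHom.id K) ψ hf

theorem push (hM : IsPModular l M) {ι : L →* K} {ψ : L → ℂ} {χ f : K → ℂ} (hχ : IsClassFunction K χ)
    (hf : IsClassFunction K f) (h1 : ∀ x, MemLocalRing M (f x))
    (h : ∀ x, f x ≠ 0 → MemLocalIdeal M (centralChar χ x - ic ι ψ x)) : MemLocalIdeal M (om χ f - om ψ (f ∘ ι)) := by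
  rw [om_eq hχ hf, om_comp ι ψ hf, ← Finset.sum_sub_distrib]
  refine memLocalIdeal_sum hM _ _ fun c _ => ?_
  rw [← mul_sub]
  by_cases h0 : f c.out = 0
  · rw [h0, zero_mul]
    exact memLocalIdeal_zero hM
  · exact memLocalIdeal_mul_left hM (h1 _) (h _ h0)

theorem om_same (hM : IsPModular l M) {ψ ψ' : IrrCharacter K} (h : SameBlock M (ψ : K → ℂ) ψ') {f : K → ℂ}
    (hf : IsClassFunction K f) (h1 : ∀ x, MemLocalRing M (f x)) : MemLocalIdeal M (om ψ f - om ψ' f) :=
  push hM (ι := MonoidHom.id K) (Basic.irr_isClassFunction ψ.2) hf h1 fun x _ => by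
    rw [ic_id (Basic.irr_isClassFunction ψ'.2)]
    exact h x

theorem om_over {ι : L →* K} (hι : Function.Injective ι) {ψ : L → ℂ} {χ f : K → ℂ} (hψ : IsIrrCharacter L ψ)
    (hχ : IsIrrCharacter K χ) (h : classInner (χ ∘ ι) ψ ≠ 0) (hf : IsClassFunction K f)
    (h1 : ∀ x, f x ≠ 0 → x ∈ ι.range) : om χ f = om ψ (f ∘ ι) := by
  have e1 : ∀ g, ∑ y, f (ι y) * χ (ι y * g) = om χ f * χ g := fun g => by
    rw [show om χ f * χ g = ∑ x, f x * χ (x * g) by
      simp only [om, Over.sum_mul_shift hχ hf g, Finset.sum_div, mul_div_assoc]]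
    exact Finset.sum_of_injOn ι hι.injOn (by simp) (fun x _ hx => by
      rw [show f x = 0 from by_contra fun e => hx (by simpa using h1 x e), zero_mul]) fun _ _ => rfl
  have e2 : ∀ g, ∑ y, f (ι y) * ψ (y * g) = om ψ (f ∘ ι) * ψ g := fun g =>
    (Over.sum_mul_shift hψ (comp_cls hf ι) g).trans (by simp only [om, Finset.sum_div, mul_div_assoc])
  rw [Basic.classInner_def] at h
  refine mul_right_cancel₀ (right_ne_zero_of_mul h) ?_
  simp only [Finset.mul_sum, Function.comp_apply, ← Orthogonality.irr_apply_inv hψ]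
  calc ∑ g, om χ f * (χ (ι g) * ψ g⁻¹) = ∑ y, ∑ g, f (ι y) * (χ (ι (y * g)) * ψ g⁻¹) := by
        rw [Finset.sum_comm]
        simp only [← mul_assoc, ← e1, Finset.sum_mul, map_mul]
    _ = ∑ y, ∑ g, f (ι y) * (χ (ι g) * ψ (y * g⁻¹)) := Finset.sum_congr rfl fun y _ =>
        Fintype.sum_equiv (Equiv.mulLeft y) _ _ fun g => by
          rw [Equiv.coe_mulLeft, Basic.irr_mul_comm hψ y, mul_inv_rev, inv_mul_cancel_right]
    _ = _ := by
        rw [Finset.sum_comm]
        refine Finset.sum_congr rfl fun g _ => ?_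
        rw [mul_left_comm, ← e2, Finset.mul_sum]
        exact Finset.sum_congr rfl fun _ _ => mul_left_comm _ _ _

theorem up_iff {ι : L →* K} {ψ : L → ℂ} {χ : K → ℂ} :
    Up l M ι ψ χ ↔ ∀ x, ¬ l ∣ orderOf x → MemLocalIdeal M (centralChar χ x - ic ι ψ x) := Iff.rfl

theorem trans {J : Type} [Group J] [Fintype J] {ι : L →* K} {κ : J →* L} (hM : IsPModular l M) {φ : J → ℂ}
    {ψ : IrrCharacter L} {χ : K → ℂ} (h1 : Up l M κ φ ψ) (hι : Function.Injective ι) (h2 : Up l M ι ψ χ) :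
    Up l M (ι.comp κ) φ χ := up_iff.2 fun x hx => by
  have h3 := memLocalIdeal_add hM (up_iff.1 h2 x hx) (push hM (Basic.irr_isClassFunction ψ.2) (comp_cls (cl_cls x) ι)
    (fun _ => cl_ring hM _ _) fun y hy => h1 y (by rwa [← orderOf_injective ι hι, ← ord_eq (cl_ne hy)]))
  rw [ic_eq, sub_add_sub_cancel] at h3
  rw [ic_eq]
  exact h3

theorem nrm {ι : L →* K} (hM : IsPModular l M) (hι : Function.Injective ι) (h1 : ∀ y, ¬ l ∣ orderOf y → y ∈ ι.range)
    {ψ : L → ℂ} {χ : K → ℂ} (hψ : IsIrrCharacter L ψ) (hχ : IsIrrCharacter K χ) (h : classInner (χ ∘ ι) ψ ≠ 0) :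
    Up l M ι ψ χ := up_iff.2 fun x hx => by
  rw [ic_eq, ← om_over hι hψ hχ h (cl_cls x) fun y hy => h1 y (ord_eq (cl_ne hy) ▸ hx),
    ← ic_id (Basic.irr_isClassFunction hχ), ic_eq, MonoidHom.coe_id, Function.comp_id, sub_self]
  exact memLocalIdeal_zero hM

end Om

open Om in
theorem boxUp : BoxUp where
  congr := fun {_ _ _ _ _ _ _ _ ι} hM _ _ _ _ h1 h2 h => up_iff.2 fun x hx => by
    have h3 := memLocalIdeal_add hM (memLocalIdeal_sub hM (up_iff.1 h x hx) (h2 x))
      (om_same hM h1 (comp_cls (cl_cls x) ι) fun _ => cl_ring hM _ _)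
    rw [ic_eq] at h3 ⊢
    convert h3 using 1
    ring
  uniq := fun hM _ χ χ' h h' => have := Fact.mk hM.1; PRegular.sameBlock_of_isPRegular hM χ.2 χ'.2 fun g hg => by
    simpa using memLocalIdeal_sub hM (h g hg) (h' g hg)
  trans := fun hM _ _ _ _ h1 hι h2 => trans hM h1 hι h2
  ex := by
    rintro l M K L _ _ _ _ ι hM hι ⟨Q, hQ, h1, h2⟩ ψ
    have : Fact l.Prime := ⟨hM.1⟩
    have := hM.2.1.isPrime
    let κ := ι.codRestrict (centralizer (Q : Set K)) fun y => h1 ⟨y, rfl⟩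
    have hκ : Function.Injective κ := fun a b e => hι (congrArg Subtype.val e)
    obtain ⟨φ, hφ, h3⟩ := H710.Gow.Star.exists_over hκ ψ.2
    obtain ⟨B, hB⟩ := H649.inducedBlockDefined_centralizer hM hQ (Basic.isPBlock_blockOf (M := M) ⟨φ, hφ⟩)
    obtain ⟨χ, hχ⟩ := Basic.isPBlock_nonempty hB.2.1
    exact ⟨χ, trans (ψ := ⟨φ, hφ⟩) hM (nrm hM hκ (fun y hy => by
      obtain ⟨z, hz⟩ := h2 y y.2 (by rwa [orderOf_coe])
      exact ⟨z, Subtype.ext hz⟩) ψ.2 hφ h3) (subtype_injective _) fun x _ =>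
        memLocalIdeal_sub_comm.1 (hB.2.2 _ (Basic.mem_blockOf_self _) χ hχ x)⟩
  ind := fun h ψ hψ χ hχ x _ => memLocalIdeal_sub_comm.1 (h.2.2 ψ hψ χ hχ x)
  cj := fun e g he ψ ψ' χ h1 h x hx => by
    rw [← finsum_mem_eq_of_bijOn e (g := fun y => ψ' y / ψ' 1) ⟨fun y hy => ?_, e.injective.injOn, fun y hy => ?_⟩
      fun y _ => by rw [h1, ← map_one e, h1]]
    · exact h x hx
    · exact IsConj.trans hy (isConj_iff.2 ⟨g, (he y).symm⟩)
    · obtain ⟨y, rfl⟩ := e.surjective y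
      exact ⟨y, IsConj.trans hy (isConj_iff.2 ⟨g, (he y).symm⟩).symm, rfl⟩
  nrm := fun hM hι h1 ψ χ h => nrm hM hι h1 ψ.2 χ.2 h

end Cfsg.Agent.BZ.Lab
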