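import Cfsg.Agent.BZ.Lab.Defs
import Cfsg.Agent.TID.Red.R2
import Cfsg.Agent.H649.StabBlock
import Cfsg.Agent.H649.PairInduced
import Cfsg.Agent.H651.NilPair
import Cfsg.Agent.H985.SylAux
import Cfsg.Agent.H710.Gow.Star
import Cfsg.Agent.Lib.Cores
import Cfsg.Agent.S0929
import Cfsg.Agent.S0964
import Cfsg.Agent.S4659

/-!
# BZ / Lab: the defect groups along `Up` (helper24)

`β` is a root of the block of `ψ` on `L = C(D) ∩ S`, `f` is the block of `C(D)` above it, `(P, e)` is a maximal pair above `(D, f)`.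
-/

set_option autoImplicit false
set_option linter.style.haveILetI false
set_option linter.unusedSectionVars false
set_option maxHeartbeats 400000

namespace Cfsg.Agent.BZ.Lab

namespace Df

open Cfsg Subgroup Cfsg.Agent Cfsg.Agent.Blocks Cfsg.Agent.Characters.Core
open Cfsg.Agent.TID.Red Cfsg.Agent.H592.Transport

variable {p : ℕ} [Fact p.Prime] {M : Ideal AlgInt}

section general

variable {X L : Type} [Group X] [Finite X] [Group L] [Finite L] {ι : L →* X}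

theorem cj_iff (N : Subgroup X) (hN : N.Normal) (t y : X) : t * y * t⁻¹ ∈ N ↔ y ∈ N :=
  ⟨fun h => by
    have h1 := hN.conj_mem _ h t⁻¹
    rwa [show t⁻¹ * (t * y * t⁻¹) * t⁻¹⁻¹ = y by group] at h1, fun h => hN.conj_mem y h t⟩

/-- a block which covers a block of the centralizer of a normal `p`-subgroup is induced from it -/
theorem indH_of_covH (hM : IsPModular p M) (hι : Function.Injective ι) (hn : ι.range.Normal) {U : Subgroup X}
    (hU : U.Normal) (hp : IsPGroup p U) (hC : centralizer (U : Set X) ≤ ι.range) {B : Set (IrrCharacter X)}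
    (hB : IsPBlock M B) {β : Set (IrrCharacter L)} (hβ : IsPBlock M β) (h : CovH ι B β) : IndH M ι β B := by
  have := Local.isPrime_of_isPModular hM
  refine ⟨hβ, hB, fun ξ hξ χ hχ g => Local.memLocalIdeal_sub_comm ?_⟩
  by_cases h0 : g ∈ ι.range
  · obtain ⟨k, rfl⟩ := h0
    exact (passmanH hM hι hn hB hβ).1 h χ hχ ξ hξ k
  · have h3 : {k : L | IsConj g (ι k)} = ∅ := Set.eq_empty_of_forall_notMem fun k hk => by
      obtain ⟨t, ht⟩ := isConj_iff.1 hk
      exact h0 ((cj_iff _ hn t g).1 (ht ▸ ⟨k, rfl⟩))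
    rw [icc, h3, finsum_mem_empty, sub_zero]
    by_contra h1
    obtain ⟨P, hP⟩ := H592.Defect.exists_defectGroup p hM hB
    obtain ⟨x, h2, h4, -⟩ := S0929.result p M hM B hB P hP g ⟨χ, hχ, h1⟩
    obtain ⟨t, rfl⟩ := isConj_iff.1 h2
    exact h0 ((cj_iff _ hn t g).1
      (hC (centralizer_le ((Lib.Cores.le_pCore hU hp).trans (S0912.result p M hM B hB P hP)) h4)))

/-- the blocks which are covered by a block are conjugate -/
theorem conj_of_covH (hM : IsPModular p M) (hι : Function.Injective ι) (hn : ι.range.Normal)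
    {B : Set (IrrCharacter X)} (hB : IsPBlock M B) {b : Set (IrrCharacter L)} (hb : IsPBlock M b) (h : CovH ι B b)
    {χ : IrrCharacter X} (hχ : χ ∈ B) {ψ : IrrCharacter L} (hψ : TID.Red.Ov ι (χ : X → ℂ) (ψ : L → ℂ)) :
    ∃ w : X, ∃ θ ∈ b, ∀ k k', ι k' = w * ι k * w⁻¹ → (ψ : L → ℂ) k = (θ : L → ℂ) k' := by
  haveI := Local.isPrime_of_isPModular hM
  letI := Fintype.ofFinite X
  letI := Fintype.ofFinite ι.range
  have h1 : ∀ y : ι.range, ι.range.subtype y = ι ((MonoidHom.ofInjective hι).symm y) := fun y =>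
    (MonoidHom.apply_ofInjective_symm hι y).symm
  obtain ⟨χ0, h2, θ0, h3, h4⟩ := KM.BK.covH_iff.1 ((covH_src_iff _ h1).2 h)
  obtain ⟨w, θ, h5, h6⟩ := S0964.result p M hM ι.range B hB _ (isPBlock_trSet _ hb) χ0 h2 θ0 h3 h4 χ hχ _
    ((ov_subtype_iff _ _ _).1 ((ov_src_iff _ h1 _ ψ).2 hψ))
  refine ⟨w, _, mem_trSet.1 h5, fun k k' e => ?_⟩
  have h7 := h6 (MonoidHom.ofInjective hι k)
  rw [tr_apply, MulEquiv.symm_apply_apply] at h7
  rw [h7, tr_apply]
  exact congrArg (θ : ι.range → ℂ) (Subtype.ext e.symm)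

/-- S0917 along an embedding -/
theorem le_defect (hM : IsPModular p M) (hι : Function.Injective ι) {b : Set (IrrCharacter L)}
    {B : Set (IrrCharacter X)} (h : IndH M ι b B) {Q : Subgroup L} (hQ : IsDefectGroup p M b Q) :
    ∃ E, IsDefectGroup p M B E ∧ Q.map ι ≤ E := by
  haveI := Local.isPrime_of_isPModular hM
  have h1 := (indH_iff_range hι).1 h
  obtain ⟨E, h2, h3⟩ := S0917.result p M hM _ _ h1.1 B h.2.1 h1 _
    (isDefectGroup_trSet (MonoidHom.ofInjective hι).symm hQ)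
  exact ⟨E, h2, map_comap_ofInjective hι Q ▸ h3⟩

theorem exists_ov_up (hι : Function.Injective ι) (θ : IrrCharacter L) :
    ∃ χ : IrrCharacter X, TID.Red.Ov ι (χ : X → ℂ) (θ : L → ℂ) := by
  letI := Fintype.ofFinite X
  letI := Fintype.ofFinite L
  obtain ⟨χ, h1, h2⟩ := H710.Gow.Star.exists_over hι θ.2
  exact ⟨⟨χ, h1⟩, (ov_iff _ _ _).2 h2⟩

/-- conjugation on the source of an embedding -/
theorem exists_cj (hι : Function.Injective ι) {x : X} (hx : x ∈ normalizer (ι.range : Set X)) :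
    ∃ c : L ≃* L, ∀ k, ι (c k) = x * ι k * x⁻¹ :=
  ⟨(MonoidHom.ofInjective hι).trans ((ι.range.normalizerMonoidHom ⟨x, hx⟩).trans (MonoidHom.ofInjective hι).symm),
    fun _ => MonoidHom.apply_ofInjective_symm hι _⟩

theorem up_of_indH [M.IsPrime] {b : Set (IrrCharacter L)} {B : Set (IrrCharacter X)} (h : IndH M ι b B)
    {ψ : IrrCharacter L} (hψ : ψ ∈ b) {χ : IrrCharacter X} (hχ : χ ∈ B) : Up p M ι ψ χ :=
  fun x _ => Local.memLocalIdeal_sub_comm (h.2.2 ψ hψ χ hχ x)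

theorem ex_norm {D P : Subgroup X} (hP : IsPGroup p P) (h : D ≤ P) (hne : D ≠ P) :
    ∃ g ∈ P, g ∈ normalizer (D : Set X) ∧ g ∉ D ∧ g ^ p ∈ D := by
  refine H985.ex_norm (hP.to_le h) h ?_
  obtain ⟨n, hn⟩ := hP.index (D.subgroupOf P)
  rw [relIndex, hn]
  refine dvd_pow_self p ?_
  rintro rfl
  exact hne (h.antisymm (relIndex_eq_one.1 hn))

theorem eq_of_cj {D Y : Subgroup X} (h : D ≤ Y) (t : X) (ht : ∀ y ∈ Y, t⁻¹ * y * t ∈ D) : D = Y :=
  eq_of_le_of_card_ge h (Nat.card_le_card_of_injective (fun y : Y => (⟨t⁻¹ * y * t, ht y y.2⟩ : D)) fun y y' e =>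
    Subtype.ext (mul_left_cancel (mul_right_cancel (congrArg Subtype.val e : t⁻¹ * y * t = t⁻¹ * y' * t))))

end general

variable {K : Type} [Group K] [Finite K] {S D : Subgroup K}

/-- `C_S(D)` -/
abbrev Lo (S D : Subgroup K) : Subgroup S := centralizer ((D.subgroupOf S : Subgroup S) : Set S)

/-- the embedding of `C_S(D)` -/
def jo (S D : Subgroup K) : Lo S D →* K := S.subtype.comp (Lo S D).subtype

theorem jo_inj : Function.Injective (jo S D) := fun _ _ h => Subtype.ext (Subtype.ext h)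

theorem jo_mem (k : Lo S D) (hD : D ≤ S) : jo S D k ∈ centralizer (D : Set K) := fun d hd =>
  congrArg Subtype.val (k.2 ⟨d, hD hd⟩ hd)

theorem exists_jo {x : K} (h1 : x ∈ centralizer (D : Set K)) (h2 : x ∈ S) : ∃ k, jo S D k = x :=
  ⟨⟨⟨x, h2⟩, fun d hd => Subtype.ext (h1 d hd)⟩, rfl⟩

theorem nor_jo (hD : D ≤ S) (hN : normalizer (D : Set K) ≤ normalizer (S : Set K)) {g : K}
    (hg : g ∈ normalizer (D : Set K)) : g ∈ normalizer ((jo S D).range : Set K) := by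
  have h1 : (jo S D).range = centralizer (D : Set K) ⊓ S := le_antisymm
    (by rintro _ ⟨k, rfl⟩; exact ⟨jo_mem k hD, k.1.2⟩) fun x hx => exists_jo hx.1 hx.2
  rw [h1, mem_normalizer_iff]
  intro x
  rw [mem_inf, mem_inf, ← mem_normalizer_iff.1 (hN hg), ← mem_normalizer_iff.1 (H649.mem_normalizer_centralizer hg)]

theorem normal_cod {L : Type} [Group L] {j : L →* K} {T : Subgroup K} (h : ∀ k, j k ∈ T)
    (hT : T ≤ normalizer (j.range : Set K)) : (j.codRestrict T h).range.Normal :=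
  ⟨by
    rintro _ ⟨k, rfl⟩ t
    obtain ⟨k', e⟩ := (mem_normalizer_iff.1 (hT t.2) (j k)).1 ⟨k, rfl⟩
    exact ⟨k', Subtype.ext e⟩⟩

theorem cod_inj {T : Subgroup K} (h : ∀ k, jo S D k ∈ T) : Function.Injective ((jo S D).codRestrict T h) :=
  fun a a' e => jo_inj (congrArg (Subtype.val : T → K) e : jo S D a = jo S D a')

variable {b : Set (IrrCharacter S)} {β : Set (IrrCharacter (Lo S D))} {f : Set (IrrCharacter (centralizer (D : Set K)))}

/-- an element which stabilises `f` -/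
theorem stab (hM : IsPModular p M) (hD : D ≤ S) (hN : normalizer (D : Set K) ≤ normalizer (S : Set K))
    (hβ : IndH M (Lo S D).subtype β b) (hf : IsPBlock M f)
    (hc : CovH ((jo S D).codRestrict _ fun k => jo_mem k hD) f β) {n : K} (h1 : n ∈ normalizer (D : Set K))
    (h2 : StabilizesBlock (centralizer (D : Set K)) f n⁻¹) : ∃ c ∈ centralizer (D : Set K), Stab S.subtype b (n * c) := by
  haveI := Local.isPrime_of_isPModular hM
  obtain ⟨χ, hχ, φ, hφ, h3⟩ := id hc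
  obtain ⟨χ', h4, h5⟩ := h2.2 χ hχ
  obtain ⟨a, ha⟩ := exists_cj jo_inj (nor_jo hD hN h1)
  have h6 : TID.Red.Ov ((jo S D).codRestrict _ fun k => jo_mem k hD) (χ' : centralizer (D : Set K) → ℂ)
      (tr a φ : Lo S D → ℂ) := by
    refine TID.Red.Ov.congr (fun k => ?_) ((ov_src_iff a (ι' := MonoidHom.comp _ a.toMonoidHom) (fun _ => rfl) _ φ).2 h3)
    refine h5 _ _ ?_
    show jo S D k = n⁻¹ * jo S D (a k) * n⁻¹⁻¹
    rw [ha]
    group
  obtain ⟨w, θ, h7, h8⟩ := conj_of_covH hM (cod_inj _)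
    (normal_cod _ fun x hx => nor_jo hD hN (centralizer_le_normalizer _ hx)) hf hβ.1 hc h4 h6
  have h9 : n * (w : K)⁻¹ ∈ normalizer (D : Set K) := mul_mem h1 (inv_mem (centralizer_le_normalizer _ w.2))
  refine ⟨_, inv_mem w.2, fun ψ hψ ψ' e => ?_⟩
  obtain ⟨a', ha'⟩ := exists_cj jo_inj (nor_jo hD hN h9)
  obtain ⟨a1, ha1⟩ := exists_cj jo_inj (nor_jo hD hN (inv_mem (centralizer_le_normalizer _ w.2)))
  obtain ⟨s, hs⟩ := exists_cj (subtype_injective S) (x := n * (w : K)⁻¹) (by rw [range_subtype]; exact hN h9)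
  have h10 : tr a' φ = θ := Subtype.ext (funext fun k => by
    rw [← h8 (a1 k) k (Subtype.ext (by
      show jo S D k = w * jo S D (a1 k) * (w : K)⁻¹
      rw [ha1]
      group)), tr_apply, tr_apply]
    refine congrArg (φ : Lo S D → ℂ) (jo_inj ?_)
    rw [ha', ha, ha1]
    group)
  have h11 : trSet a' β = β :=
    Basic.isPBlock_eq_of_mem (isPBlock_trSet _ hβ.1) hβ.1 (tr_mem_trSet.2 hφ) (h10 ▸ h7)
  have h12 : IndH M (Lo S D).subtype (trSet a' β) (trSet s b) :=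
    IndH.tgt s (ι := (Lo S D).subtype) (ι' := (Lo S D).subtype.comp a'.toMonoidHom) (fun k => Subtype.ext ((ha' k).trans (hs k).symm))
      (hβ.src a' fun _ => rfl)
  rw [h11] at h12
  rw [← tr_mem_trSet (e := s), h12.unique hβ, show tr s ψ' = ψ from Subtype.ext (funext fun y => e y _ (hs y))]
  exact hψ

/-- the part in `S` of a defect group of the block of the stabiliser -/
theorem small (hM : IsPModular p M) (hD : D ≤ S) (hN : normalizer (D : Set K) ≤ normalizer (S : Set K))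
    (hβ : IndH M (Lo S D).subtype β b) (hb : IsDefectGroup p M b (D.subgroupOf S)) (hp : IsPGroup p D)
    (hf : IsPBlock M f) (hc : CovH ((jo S D).codRestrict _ fun k => jo_mem k hD) f β) {T : Subgroup K}
    (h1 : D ≤ T) (h2 : centralizer (D : Set K) ≤ T) (h3 : T ≤ normalizer (D : Set K)) {F : Set (IrrCharacter T)}
    (hF : IsPBlock M F) (hFf : CovH (inclusion h2) F f) {R : Subgroup T} (hR : IsDefectGroup p M F R) :
    ∃ t : K, ∀ y ∈ R, (y : K) ∈ S → t⁻¹ * y * t ∈ D := by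
  haveI := Local.isPrime_of_isPModular hM
  have n1 : ∀ V : Subgroup K, V ≤ normalizer (D : Set K) → (D.subgroupOf V).Normal := fun V hV =>
    ⟨fun x hx t => (mem_normalizer_iff.1 (hV t.2) _).1 hx⟩
  have n2 : (inclusion h2).range.Normal := normal_cod (j := (centralizer (D : Set K)).subtype) _ fun x hx => by
    rw [range_subtype]
    exact H649.mem_normalizer_centralizer (h3 hx)
  have i1 : IndH M (inclusion h2) f F := indH_of_covH hM (inclusion_injective _) n2 (n1 T h3)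
    (hp.comap_subtype) (fun x hx => ⟨⟨x, H649.centralizer_subgroupOf_of_le h1 hx⟩, rfl⟩) hF hf hFf
  have m1 : ∀ k, jo S D k ∈ T ⊓ S := fun k => ⟨h2 (jo_mem k hD), k.1.2⟩
  have m2 := cod_inj m1
  obtain ⟨φ, hφ⟩ := Basic.isPBlock_nonempty hβ.1
  obtain ⟨γ, hγ⟩ := exists_ov_up m2 φ
  have i2 : IndH M ((jo S D).codRestrict _ m1) β (blockOf M (γ : (T ⊓ S : Subgroup K) → ℂ)) :=
    indH_of_covH hM m2 (normal_cod _ fun x hx => nor_jo hD hN (h3 hx.1)) (n1 _ (inf_le_left.trans h3))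
      hp.comap_subtype (fun x hx => by
        obtain ⟨k, e⟩ := exists_jo (H649.centralizer_subgroupOf_of_le (le_inf h1 hD) hx) x.2.2
        exact ⟨k, Subtype.ext e⟩) ⟨γ, rfl⟩ hβ.1 ⟨γ, Basic.mem_blockOf_self γ, φ, hφ, hγ⟩
  have n3 : (inclusion (inf_le_left : T ⊓ S ≤ T)).range.Normal := ⟨by
    rintro _ ⟨k, rfl⟩ t
    exact ⟨⟨t * k * t⁻¹, T.mul_mem (T.mul_mem t.2 k.2.1) (T.inv_mem t.2), (mem_normalizer_iff.1 (hN (h3 t.2)) _).1 k.2.2⟩, rfl⟩⟩
  have c1 : CovH (inclusion (inf_le_left : T ⊓ S ≤ T)) F (blockOf M (γ : (T ⊓ S : Subgroup K) → ℂ)) :=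
    cov_square hM (lam := (jo S D).codRestrict _ fun k => jo_mem k hD) (mu := (jo S D).codRestrict _ m1)
      (ι := inclusion h2) (fun _ => rfl) (cod_inj _)
      (normal_cod _ fun x hx => nor_jo hD hN (centralizer_le_normalizer _ hx)) (inclusion_injective _) n3
      (by
        rintro x ⟨y, e⟩
        obtain ⟨k, e'⟩ := exists_jo x.2 (show (x : K) ∈ S from (congrArg (Subtype.val : T → K) e : (y : K) = x) ▸ y.2.2)
        exact ⟨k, Subtype.ext e'⟩) i2 hc i1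
  obtain ⟨Q, hQ⟩ := H592.Defect.exists_defectGroup p hM i2.2.1
  obtain ⟨P', h4, h5⟩ := exists_defect_inf hM (inclusion_injective _) n3 hF i2.2.1 c1 hQ
  obtain ⟨E, h6, h7⟩ := le_defect hM (inclusion_injective (inf_le_right : T ⊓ S ≤ S))
    ((i2.trans_iff (ι := (Lo S D).subtype) fun _ => rfl).1 hβ) hQ
  obtain ⟨x, rfl⟩ := conj_defect hM hF h4 hR
  obtain ⟨s, rfl⟩ := conj_defect hM hβ.2.1 hb h6
  refine ⟨x * s, ?_⟩
  rintro _ ⟨y, hy, rfl⟩ h8
  have h9 : (y : K) ∈ S := (mem_normalizer_iff.1 (hN (h3 x.2)) _).2 h8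
  obtain ⟨d, hd, e⟩ := h7 ⟨⟨y, y.2, h9⟩, (h5 ▸ hy : (⟨y, y.2, h9⟩ : (T ⊓ S : Subgroup K)) ∈ Q), rfl⟩
  have e' : (s : K) * d * (s : K)⁻¹ = y := congrArg Subtype.val e
  show ((x : K) * s)⁻¹ * (x * y * (x : K)⁻¹) * (x * s) ∈ D
  rw [← e', show ((x : K) * s)⁻¹ * (x * (s * d * (s : K)⁻¹) * (x : K)⁻¹) * (x * s) = d by group]
  exact hd

/-- the group theoretic part -/
theorem core (hM : IsPModular p M) (hD : D ≤ S) (hN : normalizer (D : Set K) ≤ normalizer (S : Set K))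
    (hβ : IndH M (Lo S D).subtype β b) (hb : IsDefectGroup p M b (D.subgroupOf S)) (hp : IsPGroup p D)
    (hc : CovH ((jo S D).codRestrict _ fun k => jo_mem k hD) f β) {B : Set (IrrCharacter K)}
    (h2 : IsBrauerPairOf p M B D f) : ∃ D₁, IsDefectGroup p M B D₁ ∧ D₁ ⊓ S = D ∧ (D ≠ D₁ → ∃ n ∈ D₁, n ∉ S ∧ n ^ p ∈ D ∧
      n ∈ normalizer (D : Set K) ∧ ∃ c ∈ centralizer (D : Set K), Stab S.subtype b (n * c)) := by
  haveI := Local.isPrime_of_isPModular hM
  letI := Fintype.ofFinite K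
  letI := Fintype.ofFinite (centralizer (D : Set K))
  have hf := h2.1.2
  obtain ⟨P, e, hmax, hle⟩ := H644.exists_maximal_above hM h2
  obtain ⟨T, hT⟩ : ∃ T, H649.IsStab D f T := ⟨H651.idxStab ⟨D, f⟩, fun y => H649.conjIdx_eq_iff hf y⟩
  obtain ⟨F, hF, hFc⟩ := H649.exists_block_of_isStab hM hp hf hT
  obtain ⟨R, hR, hPR⟩ := H649.exists_stab_defect hM hmax.1.1 hle hT hF hFc
  have hPT := H649.inf_normalizer_le hM hmax.1.1 hle hT
  obtain ⟨ξ, hξ⟩ := Basic.isPBlock_nonempty hF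
  obtain ⟨θ, hθ⟩ := exists_ov (inclusion hT.centralizer_le) ξ.2
  have h3 := (ov_iff _ _ _).1 hθ
  obtain ⟨t, ht⟩ := small hM hD hN hβ hb hp hf hc hT.le hT.centralizer_le hT.le_normalizer hF
    ⟨ξ, hξ, θ, H649.mem_of_constituent hT hFc hξ h3, hθ⟩ hR
  have hDP : D ≤ P := H649.SubpairLE.le hle
  have h4 : D = P ⊓ normalizer (D : Set K) ⊓ S := eq_of_cj (le_inf (le_inf hDP le_normalizer) hD) t fun y hy =>
    ht ⟨y, hPT hy.1⟩ (hPR (mem_subgroupOf.2 hy.1)) hy.2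
  have h5 : P ⊓ S = D := by
    by_contra h
    obtain ⟨g, h6, h7, h8, -⟩ := ex_norm (hmax.1.1.1.to_inf_left) (le_inf hDP hD) (Ne.symm h)
    exact h8 (h4.ge ⟨⟨h6.1, h7⟩, h6.2⟩)
  refine ⟨P, S4659.result p M hM _ P e hmax, h5, fun h => ?_⟩
  obtain ⟨n, h6, h7, h8, h9⟩ := ex_norm hmax.1.1.1 hDP h
  exact ⟨n, h6, fun h10 => h8 (h5.le ⟨h6, h10⟩), h9, h7,
    stab hM hD hN hβ hf hc h7 ((hT _).1 (inv_mem (hPT ⟨h6, h7⟩))).2⟩

end Df

open Cfsg Subgroup Cfsg.Agent Cfsg.Agent.Blocks Cfsg.Agent.TID.Red Df in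
/-- **[Def]** -/
theorem boxDef_of (hU : BoxUp) : BoxDef := by
  intro l M K _ _ S D hM ψ χ hup _ hD hb hreg hN
  haveI : Fact l.Prime := ⟨hM.1⟩
  haveI := Local.isPrime_of_isPModular hM
  letI := Fintype.ofFinite S
  letI := Fintype.ofFinite (Lo S D)
  letI := Fintype.ofFinite (centralizer (D : Set K))
  have hp : IsPGroup l D := (Basic.isPGroup_of_isDefectGroup hb).of_equiv (subgroupOfEquivOfLe hD)
  obtain ⟨β, h1⟩ := H649.exists_pair_of_isDefectGroup hM ⟨ψ, rfl⟩ hb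
  have hβ : IndH M (Lo S D).subtype β (blockOf M (ψ : S → ℂ)) :=
    (H649.isBrauerPairOf_iff_isInducedBlock hM h1.2.1 h1.1.1 h1.1.2).1 h1
  obtain ⟨φ, hφ⟩ := Basic.isPBlock_nonempty hβ.1
  have m2 := cod_inj fun k => jo_mem k hD
  obtain ⟨η, hη⟩ := exists_ov_up m2 φ
  have hf : IsPBlock M (blockOf M (η : centralizer (D : Set K) → ℂ)) := ⟨η, rfl⟩
  obtain ⟨B, h2, -⟩ := H644.existsUnique_isBrauerPairOf hM (⟨hp, hf⟩ : IsBrauerPair l M D _)
  obtain ⟨χ', h3⟩ := Basic.isPBlock_nonempty h2.2.1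
  have u0 : Up l M ((jo S D).codRestrict _ fun k => jo_mem k hD) φ η := hU.nrm hM m2 (fun y hy => by
    obtain ⟨k, e⟩ := exists_jo y.2 (hreg y y.2 (by rwa [orderOf_coe]))
    exact ⟨k, Subtype.ext e⟩) ((ov_iff _ _ _).1 hη)
  have u1 := hU.trans hM m2 u0 (subtype_injective _)
    (hU.ind ((H649.isBrauerPairOf_iff_isInducedBlock hM h2.2.1 hp hf).1 h2) η (Basic.mem_blockOf_self η) χ' h3)
  have u2 := hU.trans hM (subtype_injective _)
    (up_of_indH hβ hφ (Basic.mem_blockOf_self ψ)) (subtype_injective _) hup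
  have e : B = blockOf M (χ : K → ℂ) :=
    Basic.isPBlock_eq_of_sameBlock h2.2.1 ⟨χ, rfl⟩ h3 (Basic.mem_blockOf_self χ) (hU.uniq hM u1 u2)
  exact core hM hD hN hβ hb hp ⟨η, Basic.mem_blockOf_self η, φ, hφ, hη⟩ (e ▸ h2)

end Cfsg.Agent.BZ.Lab
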