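import Cfsg.Agent.HZ.Gen.Blk
import Cfsg.Agent.HZ.Gen.Cur
import Cfsg.Agent.HZ.Gen.Oth
import Cfsg.Agent.HZ.Gen.Sep
import Cfsg.Agent.KM.BK.A

/-!
# BZ / Lab: elementary `e`-Harish-Chandra theory for `l`-blocks (helper7)

`K` is a finite group with an automorphism `α` of a huge prime order `m` (`K = G^(F^m)`, `α = F`), `r > m` is a prime with
`Big K r n`; the centralisers of the `α`-stable `r`-subgroups are the `e`-split Levi subgroups and `rs r P` is the Lusztig restriction.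

* `Gl`, `Fr` : the frames; `St`, `StB`, `StS` : stable functions, blocks, subgroups;
* `Up` : Brauer induction on the `l`-regular classes; `uf` : the height functional; `Lv`, `Fam` : `C(P)` is a centraliser of an `l`-group;
* `Cj`, `Orb`, `Stab`, `Tight`; `Out` : the output; the boxes.
-/

set_option autoImplicit false

namespace Cfsg.Agent.BZ.Lab

open Cfsg Subgroup Cfsg.Agent.HZ.Gen Cfsg.Agent.KM
open scoped ComplexConjugate

/-- the coprime automorphism of a huge prime order -/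
structure Gl (l m N : ℕ) (K : Type) [Group K] (α : MulAut K) : Prop where
  lp : l.Prime
  mp : m.Prime
  pow : α ^ m = 1
  cop : ¬ m ∣ Nat.card K
  syl : l ^ (Nat.card K).factorization l ≤ N
  big : (N ^ 4 + 1) ^ 2 < m

/-- the frame -/
structure Fr (l r m n N : ℕ) (K : Type) [Group K] (α : MulAut K) : Prop extends Gl l m N K α where
  rp : r.Prime
  mr : m < r
  lm : l < m
  fix : ∀ g, α g = g → orderOf g < m
  bg : Big K r n
  bdm : bd n 1 < m
  nm : 2 * n < m

section defs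

variable {K L : Type} [Group K] [Group L]

/-- a stable function -/
def St (α : MulAut K) (χ : K → ℂ) : Prop := ∀ g, χ (α g) = χ g

/-- all members are stable -/
def StB (α : MulAut K) (B : Set (IrrCharacter K)) : Prop := ∀ χ ∈ B, St α (χ : K → ℂ)

/-- a stable subgroup -/
def StS (α : MulAut K) (P : Subgroup K) : Prop := ∀ g, α g ∈ P ↔ g ∈ P

/-- `ι` is an embedding which is compatible with the automorphisms -/
structure Emb (ι : L →* K) (β : MulAut L) (α : MulAut K) : Prop where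
  inj : Function.Injective ι
  cm : ∀ y, ι (β y) = α (ι y)

/-- the restriction of `α` to a stable subgroup -/
def StS.res {α : MulAut K} {P : Subgroup K} (h : StS α P) : MulAut P where
  toFun g := ⟨α g, (h g).2 g.2⟩
  invFun g := ⟨α.symm g, (h _).1 (by simpa using g.2)⟩
  left_inv g := Subtype.ext (α.symm_apply_apply g)
  right_inv g := Subtype.ext (α.apply_symm_apply g)
  map_mul' a b := Subtype.ext (map_mul α (a : K) b)

theorem StS.emb {α : MulAut K} {P : Subgroup K} (h : StS α P) : Emb P.subtype h.res α := ⟨subtype_injective P, fun _ => rfl⟩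

theorem StS.cen {α : MulAut K} {P : Subgroup K} (h : StS α P) : StS α (centralizer (P : Set K)) := fun g =>
  ⟨fun e x hx => α.injective (by rw [map_mul, map_mul]; exact e _ ((h x).2 hx)), fun e x hx => by
    have := congrArg α (e (α.symm x) ((h _).1 (by simpa using hx)))
    simpa using this⟩

/-- the block of `ψ` induces the block of `χ`, on the `l`-regular classes -/
def Up (l : ℕ) (M : Ideal AlgInt) (ι : L →* K) (ψ : L → ℂ) (χ : K → ℂ) : Prop :=
  ∀ x, ¬ l ∣ orderOf x → MemLocalIdeal M (centralChar χ x - ∑ᶠ y ∈ {y | IsConj x (ι y)}, ψ y / ψ 1)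

open Classical in
/-- the height functional: `|L| ⟨f°, ψ⟩ / ψ(1)` -/
noncomputable def uf (l : ℕ) [Fintype L] (ψ f : L → ℂ) : ℂ := ∑ y with ¬ l ∣ orderOf y, f y * conj (ψ y) / ψ 1

/-- `S` is, up to an `l`-group, the centraliser of an `l`-subgroup -/
def Lv (l : ℕ) (S : Subgroup K) : Prop :=
  ∃ Q : Subgroup K, IsPGroup l Q ∧ S ≤ centralizer Q ∧ ∀ y ∈ centralizer (Q : Set K), ¬ l ∣ orderOf y → y ∈ S

/-- the family hypothesis -/
def Fam (l r : ℕ) (α : MulAut K) (P : Subgroup K) : Prop :=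
  ∀ P' : Subgroup K, P ≤ P' → IsPGroup r P' → StS α P' → Lv l (centralizer (P' : Set K))

/-- `ψ'` is the conjugate of `ψ` by `g` -/
def Cj (ι : L →* K) (g : K) (ψ ψ' : L → ℂ) : Prop := ∀ y y', ι y' = g * ι y * g⁻¹ → ψ' y' = ψ y

/-- the orbit under the normaliser of `P` -/
def Orb (ι : L →* K) (P : Subgroup K) (ψ : L → ℂ) : Set (IrrCharacter L) :=
  {ψ' | ∃ g ∈ normalizer (P : Set K), Cj ι g ψ (ψ' : L → ℂ)}

/-- `g` stabilises `b` -/
def Stab (ι : L →* K) (b : Set (IrrCharacter L)) (g : K) : Prop :=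
  ∀ ψ ∈ b, ∀ ψ' : IrrCharacter L, Cj ι g (ψ : L → ℂ) (ψ' : L → ℂ) → ψ' ∈ b

/-- `ψ` is a character of `r`-defect zero of `L / P` -/
def Tight (r : ℕ) (ι : L →* K) (P : Subgroup K) (ψ : L → ℂ) : Prop :=
  (∀ a, ι a ∈ P → ∀ g, ψ (a * g) = ψ g) ∧
    (Nat.card L).factorization r = (Nat.card P).factorization r + (charDegree ψ).factorization r

/-- `Z` lies in the kernel -/
def Ov (Z : Subgroup K) (χ : K → ℂ) : Prop := ∀ z ∈ Z, χ z = χ 1

/-- the members which are trivial on `Z` have height zero -/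
def HZr (l : ℕ) (Z : Subgroup K) (B : Set (IrrCharacter K)) : Prop :=
  ∀ χ ∈ B, Ov Z (χ : K → ℂ) → blockHeight l B (χ : K → ℂ) = 0

/-- **the output**: `C(P)` is a minimal split Levi subgroup with a block `b` below `B` -/
structure Out (l r : ℕ) (M : Ideal AlgInt) (α : MulAut K) (B : Set (IrrCharacter K)) (P : Subgroup K)
    (b : Set (IrrCharacter (centralizer (P : Set K)))) (D' D₁ : Subgroup K) : Prop where
  rp : IsPGroup r P
  st : StS α P
  lv : Lv l (centralizer (P : Set K))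
  blk : IsPBlock M b
  stb : StB st.cen.res b
  up : ∀ ψ ∈ b, ∀ χ ∈ B, Up l M (centralizer (P : Set K)).subtype (ψ : centralizer (P : Set K) → ℂ) (χ : K → ℂ)
  le : D' ≤ centralizer (P : Set K)
  dfb : IsDefectGroup l M b (D'.subgroupOf (centralizer (P : Set K)))
  fix : ∀ x ∈ D', α x = x
  dfB : IsDefectGroup l M B D₁
  inf : D₁ ⊓ centralizer (P : Set K) = D'
  mx : ∀ A ≤ D', ∀ y ∈ centralizer (P : Set K), (∃ k, orderOf y = r ^ k) → y ∈ centralizer (A : Set K) →
    (∀ c ∈ centralizer (P : Set K), c ∈ centralizer (A : Set K) → ¬ l ∣ orderOf c → Commute y c) → y ∈ P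
  nor : normalizer (D' : Set K) ≤ normalizer (P : Set K)
  nrm : D' ≠ D₁ → ∃ n ∈ D₁, n ∉ centralizer (P : Set K) ∧ n ^ l ∈ D' ∧ n ∈ normalizer (D' : Set K) ∧
    ∃ c ∈ centralizer (D' : Set K), Stab (centralizer (P : Set K)).subtype b (n * c)
  tight : ∀ ψ ∈ b, Tight r (centralizer (P : Set K)).subtype P (ψ : centralizer (P : Set K) → ℂ)
  crit : ∀ ψ ∈ b, ∃ ξ ∈ B, (∀ z : centralizer (P : Set K), (z : K) ∈ center K →
      (ξ : K → ℂ) z / (ξ : K → ℂ) 1 = (ψ : centralizer (P : Set K) → ℂ) z / (ψ : centralizer (P : Set K) → ℂ) 1) ∧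
    (blockHeight l B (ξ : K → ℂ) = 0 → blockHeight l b (ψ : centralizer (P : Set K) → ℂ) = 0 ∧
      ¬ l ∣ (Orb (centralizer (P : Set K)).subtype P (ψ : centralizer (P : Set K) → ℂ) ∩ b).ncard)

end defs

section sub

variable {l r m n N : ℕ} {K L : Type} [Group K] [Finite K] [Group L] {α : MulAut K} {β : MulAut L} {ι : L →* K}

theorem Emb.pow (e : Emb ι β α) (k : ℕ) (y : L) : ι ((β ^ k) y) = (α ^ k) (ι y) := by
  induction k with
  | zero => rfl
  | succ k ih => rw [pow_succ', pow_succ', MulAut.mul_apply, MulAut.mul_apply, e.cm, ih]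

theorem Emb.comp {J : Type} [Group J] {γ : MulAut J} {κ : J →* L} (e : Emb ι β α) (e' : Emb κ γ β) : Emb (ι.comp κ) γ α :=
  ⟨e.inj.comp e'.inj, fun y => by rw [MonoidHom.comp_apply, e'.cm, e.cm]; rfl⟩

theorem Gl.sub (h : Gl l m N K α) (e : Emb ι β α) : Gl l m N L β where
  lp := h.lp
  mp := h.mp
  pow := MulEquiv.ext fun y => e.inj (by rw [e.pow, h.pow]; rfl)
  cop := fun hd => h.cop (hd.trans (card_dvd_of_injective ι e.inj))
  syl := (Nat.pow_le_pow_right h.lp.pos ((Nat.factorization_le_iff_dvd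
    (have := Finite.of_injective ι e.inj; Nat.card_pos.ne') Nat.card_pos.ne').2 (card_dvd_of_injective ι e.inj) l)).trans h.syl
  big := h.big

theorem Fr.sub (h : Fr l r m n N K α) (e : Emb ι β α) : Fr l r m n N L β :=
  have : Fact r.Prime := ⟨h.rp⟩
  { h.toGl.sub e with
    rp := h.rp
    mr := h.mr
    lm := h.lm
    fix := fun g hg => orderOf_injective ι e.inj g ▸ h.fix _ (by rw [← e.cm, hg])
    bg := h.bg.sub ι e.inj
    bdm := h.bdm
    nm := h.nm }

theorem Fr.ne (h : Fr l r m n N K α) : l ≠ r := (h.lm.trans h.mr).ne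

theorem Fr.bdr (h : Fr l r m n N K α) : bd n 1 < r := h.bdm.trans h.mr

theorem St.comp {χ : K → ℂ} (h : St α χ) (e : Emb ι β α) : St β (χ ∘ ι) := fun y => by
  rw [Function.comp_apply, e.cm, h, Function.comp_apply]

theorem StS.comap {P : Subgroup K} (h : StS α P) (e : Emb ι β α) : StS β (P.comap ι) := fun y => by
  rw [mem_comap, e.cm, h, mem_comap]

theorem StS.map {P : Subgroup L} (h : StS β P) (e : Emb ι β α) : StS α (P.map ι) := fun g => by
  have h1 : ∀ x ∈ P.map ι, α x ∈ P.map ι := by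
    rintro _ ⟨y, hy, rfl⟩
    exact ⟨β y, (h y).2 hy, e.cm y⟩
  refine ⟨fun hg => ?_, h1 g⟩
  obtain ⟨y, hy, e1⟩ := hg
  exact ⟨β.symm y, (h _).1 (by simpa using hy), α.injective (by rw [← e.cm, β.apply_symm_apply, e1])⟩

end sub

/-- stability: members of a block, constituents of small virtual characters, `l`-subgroups, rationality, subgroups -/
structure BoxSt : Prop where
  blk : ∀ {l m N : ℕ} {K : Type} [Group K] [Fintype K] {α : MulAut K} {M : Ideal AlgInt}, Gl l m N K α → IsPModular l M →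
    ∀ χ : IrrCharacter K, St α (χ : K → ℂ) → StB α (blockOf M (χ : K → ℂ))
  con : ∀ {l m N : ℕ} {K : Type} [Group K] [Fintype K] {α : MulAut K}, Gl l m N K α → ∀ f : K → ℂ, IsGeneralizedCharacter K f →
    St α f → (classInner f f).re < m → ∀ ψ : IrrCharacter K, classInner f ψ ≠ 0 → St α (ψ : K → ℂ)
  grp : ∀ {l m N : ℕ} {K : Type} [Group K] [Fintype K] {α : MulAut K}, Gl l m N K α → ∀ Q : Subgroup K, IsPGroup l Q → StS α Q →
    ∀ x ∈ Q, α x = x
  dfg : ∀ {l m N : ℕ} {K : Type} [Group K] [Fintype K] {α : MulAut K}, Gl l m N K α → ∀ (s : ℕ) (M : Ideal AlgInt), IsPModular s M →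
    ∀ χ : IrrCharacter K, St α (χ : K → ℂ) → ∃ D, IsDefectGroup s M (blockOf M (χ : K → ℂ)) D ∧ StS α D
  rat : ∀ {l r m n N : ℕ} {K : Type} [Group K] [Fintype K] {α : MulAut K}, Fr l r m n N K α → ∀ χ : IrrCharacter K,
    St α (χ : K → ℂ) → Sm r 1 (χ : K → ℂ)

/-- **Glauberman - Watanabe** -/
def BoxW : Prop :=
  ∀ {l m N : ℕ} {K H : Type} [Group K] [Fintype K] [Group H] [Fintype H] {α : MulAut K} {M : Ideal AlgInt} (j : H →* K),
    Gl l m N K α → IsPModular l M → Function.Injective j → (∀ g, α g = g ↔ g ∈ j.range) →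
    ∀ (B : Set (IrrCharacter H)) (D : Subgroup H), IsPBlock M B → IsDefectGroup l M B D →
      ∃ e : IrrCharacter H → IrrCharacter K, Function.Injective e ∧ IsPBlock M (e '' B) ∧ StB α (e '' B) ∧
        IsDefectGroup l M (e '' B) (D.map j) ∧ ∀ ξ ∈ B, blockHeight l (e '' B) (e ξ : K → ℂ) = blockHeight l B (ξ : H → ℂ) ∧
          ∃ k : ℕ, ¬ m ∣ k ∧ classInner ((e ξ : K → ℂ) ∘ j) ξ = k

/-- the relation `Up` -/
structure BoxUp : Prop where
  congr : ∀ {l : ℕ} {M : Ideal AlgInt} {K L : Type} [Group K] [Fintype K] [Group L] [Fintype L] {ι : L →* K}, IsPModular l M →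
    ∀ {ψ ψ' : IrrCharacter L} {χ χ' : IrrCharacter K}, SameBlock M (ψ : L → ℂ) ψ' → SameBlock M (χ : K → ℂ) χ' →
      Up l M ι ψ χ → Up l M ι ψ' χ'
  uniq : ∀ {l : ℕ} {M : Ideal AlgInt} {K L : Type} [Group K] [Fintype K] [Group L] [Fintype L] {ι : L →* K}, IsPModular l M →
    ∀ {ψ : L → ℂ} {χ χ' : IrrCharacter K}, Up l M ι ψ χ → Up l M ι ψ χ' → SameBlock M (χ : K → ℂ) χ'
  trans : ∀ {l : ℕ} {M : Ideal AlgInt} {K L J : Type} [Group K] [Fintype K] [Group L] [Fintype L] [Group J] [Fintype J]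
    {ι : L →* K} {κ : J →* L}, IsPModular l M → Function.Injective κ → ∀ {φ : J → ℂ} {ψ : IrrCharacter L} {χ : K → ℂ},
      Up l M κ φ ψ → Function.Injective ι → Up l M ι ψ χ → Up l M (ι.comp κ) φ χ
  ex : ∀ {l : ℕ} {M : Ideal AlgInt} {K L : Type} [Group K] [Fintype K] [Group L] [Fintype L] {ι : L →* K}, IsPModular l M →
    Function.Injective ι → Lv l ι.range → ∀ ψ : IrrCharacter L, ∃ χ : IrrCharacter K, Up l M ι ψ χ
  ind : ∀ {l : ℕ} {M : Ideal AlgInt} {K : Type} [Group K] [Fintype K] {S : Subgroup K} {b : Set (IrrCharacter S)}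
    {B : Set (IrrCharacter K)}, IsInducedBlock M S b B → ∀ ψ ∈ b, ∀ χ ∈ B, Up l M S.subtype ψ χ
  cj : ∀ {l : ℕ} {M : Ideal AlgInt} {K L L' : Type} [Group K] [Fintype K] [Group L] [Fintype L] [Group L'] [Fintype L']
    {ι : L →* K} {ι' : L' →* K} (e : L ≃* L') (g : K), (∀ y, ι' (e y) = g * ι y * g⁻¹) → ∀ {ψ : L → ℂ} {ψ' : L' → ℂ} {χ : K → ℂ},
      (∀ y, ψ' (e y) = ψ y) → Up l M ι ψ χ → Up l M ι' ψ' χ
  nrm : ∀ {l : ℕ} {M : Ideal AlgInt} {K L : Type} [Group K] [Fintype K] [Group L] [Fintype L] {ι : L →* K}, IsPModular l M →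
    Function.Injective ι → (∀ y, ¬ l ∣ orderOf y → y ∈ ι.range) → ∀ {ψ : IrrCharacter L} {χ : IrrCharacter K},
      classInner ((χ : K → ℂ) ∘ ι) ψ ≠ 0 → Up l M ι ψ χ

/-- the height functional -/
structure BoxUf : Prop where
  cong : ∀ {l : ℕ} {M : Ideal AlgInt} {L : Type} [Group L] [Fintype L], IsPModular l M → ∀ (ψ : IrrCharacter L) {f : L → ℂ},
    IsClassFunction L f → (∀ y, ¬ l ∣ orderOf y → MemLocalIdeal M (f y)) → MemLocalIdeal M (uf l ψ f)
  blk : ∀ {l : ℕ} {M : Ideal AlgInt} {L : Type} [Group L] [Fintype L], IsPModular l M → ∀ {ψ ψ' : IrrCharacter L} {f : L → ℂ},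
    IsGeneralizedCharacter L f → SameBlock M (ψ : L → ℂ) ψ' → MemLocalIdeal M (uf l ψ f - uf l ψ' f)
  up : ∀ {l : ℕ} {M : Ideal AlgInt} {K L : Type} [Group K] [Fintype K] [Group L] [Fintype L] {ι : L →* K}, IsPModular l M →
    Function.Injective ι → ∀ {ψ : IrrCharacter L} {χ₀ : IrrCharacter K} {f : K → ℂ}, IsGeneralizedCharacter K f → Up l M ι ψ χ₀ →
      MemLocalIdeal M (uf l ψ (f ∘ ι) - uf l χ₀ f)
  int : ∀ {l : ℕ} {M : Ideal AlgInt} {L : Type} [Group L] [Fintype L], IsPModular l M → ∀ (ψ : IrrCharacter L) {f : L → ℂ},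
    IsGeneralizedCharacter L f → MemLocalRing M (uf l ψ f)
  oth : ∀ {l : ℕ} {M : Ideal AlgInt} {L : Type} [Group L] [Fintype L], IsPModular l M → ∀ {ψ χ : IrrCharacter L},
    ¬ SameBlock M (ψ : L → ℂ) χ → uf l (ψ : L → ℂ) (χ : L → ℂ) = 0
  ht : ∀ {l : ℕ} {M : Ideal AlgInt} {L : Type} [Group L] [Fintype L], IsPModular l M → ∀ {ψ χ : IrrCharacter L},
    SameBlock M (ψ : L → ℂ) χ → (¬ MemLocalIdeal M (uf l (ψ : L → ℂ) (χ : L → ℂ)) ↔ blockHeight l (blockOf M (ψ : L → ℂ)) (χ : L → ℂ) = 0)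

/-- a section is described by stable characters of the centraliser -/
def BoxSec : Prop :=
  ∀ {l m N : ℕ} {K C : Type} [Group K] [Fintype K] [Group C] [Fintype C] {α : MulAut K} {γ : MulAut C} {κ : C →* K}
    {M : Ideal AlgInt}, Gl l m N K α → IsPModular l M → Emb κ γ α → ∀ t : C, γ t = t → (∃ k, orderOf t = l ^ k) →
    κ.range = centralizer {κ t} → ∀ ξ : IrrCharacter K, St α (ξ : K → ℂ) →
      ∃ (S : Finset (IrrCharacter C)) (c : IrrCharacter C → ℤ), (∀ η ∈ S, St γ (η : C → ℂ) ∧ Up l M κ η ξ) ∧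
        ∀ v, ¬ l ∣ orderOf v → (ξ : K → ℂ) (κ (t * v)) = ∑ η ∈ S, (c η : ℂ) * (η : C → ℂ) (t * v)

/-- the restriction is congruent to the ordinary restriction on the `l`-regular elements -/
def BoxCur : Prop :=
  ∀ {l r m n N : ℕ} {K : Type} [Group K] [Fintype K] {α : MulAut K} {M : Ideal AlgInt}, Fr l r m n N K α → IsPModular l M →
    ∀ P : Subgroup K, IsPGroup r P → StS α P → Lv l (centralizer (P : Set K)) → ∀ ξ : IrrCharacter K, St α (ξ : K → ℂ) →
      ∀ v ∈ centralizer (P : Set K), ¬ l ∣ orderOf v → MemLocalIdeal M (rs r P ξ v - (ξ : K → ℂ) v)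

/-- roots and orbits (`r`-blocks) -/
structure BoxOrb : Prop where
  root : ∀ {r n : ℕ} {K : Type} [Group K] [Fintype K] {M : Ideal AlgInt}, IsPModular r M → Big K r n → bd n 1 < r →
    ∀ (ξ : IrrCharacter K) (P : Subgroup K) [Fintype (centralizer (P : Set K))], Sm r 1 (ξ : K → ℂ) →
      IsDefectGroup r M (blockOf M (ξ : K → ℂ)) P → ∃ ψ : IrrCharacter (centralizer (P : Set K)),
        Tight r (centralizer (P : Set K)).subtype P ψ ∧ classInner (rs r P ξ ∘ (centralizer (P : Set K)).subtype) ψ ≠ 0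
  orb : ∀ {r n : ℕ} {K L : Type} [Group K] [Fintype K] [Group L] [Fintype L] {ι : L →* K} {P : Subgroup K}, r.Prime → Big K r n →
    bd n 1 < r → IsPGroup r P → Function.Injective ι → ι.range = centralizer (P : Set K) → ∀ {ξ : IrrCharacter K}
      {ψ : IrrCharacter L}, Sm r 1 (ξ : K → ℂ) → Tight r ι P ψ → classInner (rs r P ξ ∘ ι) ψ ≠ 0 →
        ∃ a : ℤ, ∀ y, rs r P ξ (ι y) = a * ∑ᶠ ψ' ∈ Orb ι P ψ, (ψ' : L → ℂ) y
  link : ∀ {r n : ℕ} {K L J : Type} [Group K] [Fintype K] [Group L] [Fintype L] [Group J] [Fintype J] {ι : L →* K} {κ : J →* L}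
    {P : Subgroup K} {P₁ : Subgroup L}, r.Prime → Big K r n → bd n 1 < r → IsPGroup r P → Function.Injective ι →
      ι.range = centralizer (P : Set K) → IsPGroup r P₁ → P ≤ P₁.map ι → Function.Injective κ →
      κ.range = centralizer (P₁ : Set L) → ∀ {ξ : IrrCharacter K} {ψ : IrrCharacter L} {φ : IrrCharacter J}, Sm r 1 (ξ : K → ℂ) →
        Sm r 1 (ψ : L → ℂ) → Tight r κ P₁ φ → classInner (rs r P ξ ∘ ι) ψ ≠ 0 → classInner (rs r P₁ ψ ∘ κ) φ ≠ 0 →
          classInner (rs r (P₁.map ι) ξ ∘ ι.comp κ) φ ≠ 0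

/-- **block compatibility** -/
def BoxBC : Prop :=
  ∀ {l r m n N : ℕ} {K L : Type} [Group K] [Fintype K] [Group L] [Fintype L] {α : MulAut K} {β : MulAut L} {ι : L →* K}
    {M : Ideal AlgInt} {P : Subgroup K}, Fr l r m n N K α → IsPModular l M → IsPGroup r P → StS α P → Emb ι β α →
    ι.range = centralizer (P : Set K) → Fam l r α P → ∀ {ξ : IrrCharacter K} {ψ : IrrCharacter L}, St α (ξ : K → ℂ) →
      classInner (rs r P ξ ∘ ι) ψ ≠ 0 → Up l M ι ψ ξ

/-- a stable block below `B` in a subgroup which contains the `l`-regular elements of `C(A)`, `A ≤ D` -/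
def BoxStart : Prop :=
  ∀ {l m N : ℕ} {K L : Type} [Group K] [Fintype K] [Group L] [Fintype L] {α : MulAut K} {β : MulAut L} {ι : L →* K}
    {M : Ideal AlgInt}, Gl l m N K α → IsPModular l M → Emb ι β α → Lv l ι.range → ∀ (χ : IrrCharacter K) (D : Subgroup K)
    (A : Subgroup L), St α (χ : K → ℂ) → IsDefectGroup l M (blockOf M (χ : K → ℂ)) D → StS α D → A.map ι ≤ D →
      (∀ y ∈ centralizer (A.map ι : Set K), ¬ l ∣ orderOf y → y ∈ ι.range) →
        ∃ (ψ : IrrCharacter L) (E : Subgroup L), St β (ψ : L → ℂ) ∧ Up l M ι ψ χ ∧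
          IsDefectGroup l M (blockOf M (ψ : L → ℂ)) E ∧ A ≤ E

/-- the defect groups along `Up` -/
def BoxDef : Prop :=
  ∀ {l : ℕ} {M : Ideal AlgInt} {K : Type} [Group K] [Fintype K] {S D' : Subgroup K}, IsPModular l M →
    ∀ (ψ : IrrCharacter S) (χ : IrrCharacter K), Up l M S.subtype ψ χ → Lv l S → D' ≤ S →
      IsDefectGroup l M (blockOf M (ψ : S → ℂ)) (D'.subgroupOf S) → (∀ y ∈ centralizer (D' : Set K), ¬ l ∣ orderOf y → y ∈ S) →
      normalizer (D' : Set K) ≤ normalizer (S : Set K) →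
        ∃ D₁, IsDefectGroup l M (blockOf M (χ : K → ℂ)) D₁ ∧ D₁ ⊓ S = D' ∧ (D' ≠ D₁ → ∃ n ∈ D₁, n ∉ S ∧ n ^ l ∈ D' ∧
          n ∈ normalizer (D' : Set K) ∧ ∃ c ∈ centralizer (D' : Set K), Stab S.subtype (blockOf M (ψ : S → ℂ)) (n * c))

/-- **the main theorem** -/
def BoxMain : Prop :=
  ∀ {l r m n N : ℕ} {K : Type} [Group K] [Fintype K] {α : MulAut K} {M : Ideal AlgInt}, Fr l r m n N K α → IsPModular l M →
    ∀ (B : Set (IrrCharacter K)) (D A P₀ : Subgroup K), IsPBlock M B → StB α B → IsDefectGroup l M B D → StS α D → A ≤ D →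
      IsPGroup r P₀ → StS α P₀ → A ≤ centralizer (P₀ : Set K) →
      (∀ y ∈ centralizer (A : Set K), ¬ l ∣ orderOf y → y ∈ centralizer (P₀ : Set K)) → Fam l r α P₀ →
        ∃ (P : Subgroup K) (b : Set (IrrCharacter (centralizer (P : Set K)))) (D' D₁ : Subgroup K), P₀ ≤ P ∧ Out l r M α B P b D' D₁

/-- the consequences of `HZr`; `Q` is an `l`-subgroup of the centre of `C(P)` which is normalised by `N(P)` -/
structure BoxCor : Prop where
  hz : ∀ {l r : ℕ} {M : Ideal AlgInt} {K : Type} [Group K] [Fintype K] {α : MulAut K} {B : Set (IrrCharacter K)} {P : Subgroup K}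
    {b : Set (IrrCharacter (centralizer (P : Set K)))} {D' D₁ Z : Subgroup K}, Out l r M α B P b D' D₁ → Z ≤ center K → HZr l Z B →
      HZr l (Z.subgroupOf (centralizer (P : Set K))) b
  orb : ∀ {l r : ℕ} {M : Ideal AlgInt} {K : Type} [Group K] [Fintype K] {α : MulAut K} {B : Set (IrrCharacter K)} {P : Subgroup K}
    {b : Set (IrrCharacter (centralizer (P : Set K)))} {D' D₁ Z Q : Subgroup K}, IsPModular l M → Out l r M α B P b D' D₁ →
      Z ≤ center K → HZr l Z B → IsPGroup l Q → Z ≤ Q → Q ≤ centralizer (P : Set K) → centralizer (P : Set K) ≤ centralizer (Q : Set K) →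
      normalizer (P : Set K) ≤ normalizer (Q : Set K) → ∀ θ : Q →* ℂˣ, (∀ z : Q, (z : K) ∈ Z → θ z = 1) →
        ¬ l ∣ {θ' : Q →* ℂˣ | ∃ g ∈ normalizer (P : Set K), Stab (centralizer (P : Set K)).subtype b g ∧
          ∀ y y' : Q, (y' : K) = g * y * g⁻¹ → θ' y' = θ y}.ncard
  pw : ∀ {l r : ℕ} {M : Ideal AlgInt} {K : Type} [Group K] [Fintype K] {α : MulAut K} {B : Set (IrrCharacter K)} {P : Subgroup K}
    {b : Set (IrrCharacter (centralizer (P : Set K)))} {D' D₁ Z Q : Subgroup K}, IsPModular l M → Out l r M α B P b D' D₁ →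
      Z ≤ center K → HZr l Z B → IsPGroup l Q → Z ≤ Q → Q ≤ centralizer (P : Set K) → centralizer (P : Set K) ≤ centralizer (Q : Set K) →
      normalizer (P : Set K) ≤ normalizer (Q : Set K) → ∀ θ : Q →* ℂˣ, (∀ z : Q, (z : K) ∈ Z → θ z = 1) →
        ∀ g ∈ normalizer (P : Set K), Stab (centralizer (P : Set K)).subtype b g → ∀ k : ℕ, k ≡ 1 [MOD l] →
          (∀ y y' : Q, (y' : K) = g * y * g⁻¹ → θ y' = θ y ^ k) → ∀ y, θ y ^ k = θ y
  ol : ∀ {l r : ℕ} {M : Ideal AlgInt} {K : Type} [Group K] [Fintype K] {α : MulAut K} {B : Set (IrrCharacter K)} {P : Subgroup K}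
    {b : Set (IrrCharacter (centralizer (P : Set K)))} {D' D₁ Z Q Δ : Subgroup K}, IsPModular l M → Out l r M α B P b D' D₁ →
      Z ≤ center K → HZr l Z B → IsPGroup l Q → Z ≤ Q → Q ≤ centralizer (P : Set K) → centralizer (P : Set K) ≤ centralizer (Q : Set K) →
      normalizer (P : Set K) ≤ normalizer (Q : Set K) → Δ ≤ normalizer (P : Set K) → normalizer (P : Set K) ≤ normalizer (Δ : Set K) →
      (∀ x ∈ Δ, ∀ y ∈ Δ, x * y * x⁻¹ * y⁻¹ ∈ centralizer (Q : Set K)) → ∀ g ∈ Δ, Stab (centralizer (P : Set K)).subtype b g →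
        (∃ k, g ^ l ^ k ∈ centralizer (Q : Set K)) → ∀ y ∈ Q, g * y * g⁻¹ * y⁻¹ ∈ Z

open Cfsg.Agent.DL in
/-- **the frame of a finite reductive group**; every prime `r > m`, `r ≠ p` will do -/
def BoxGeo : Prop :=
  ∀ {p : ℕ} [Fact p.Prime] {k : Type} [Field k] [CharP k p] [IsAlgClosed k] {Y : Type} [Group Y] {I : Type} [Fintype I]
    [DecidableEq I] {ρ : Y →* GL I k} {F : MulAut Y} {G : Subgroup Y} (D : Datum p ρ F G) (l : ℕ), l.Prime → l ≠ p →
    ∃ N, Lg fun m => ∃ α : MulAut (GF (F ^ m) G), (∀ g, (α g : Y) = F g) ∧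
      ∀ r, r.Prime → m < r → Fr l r m (nb D) N (GF (F ^ m) G) α

end Cfsg.Agent.BZ.Lab
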