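import Cfsg.Agent.BZ.Lab.Defs2
import Cfsg.Agent.BZ.Lab.St
import Cfsg.Agent.BZ.Lab.Up
import Cfsg.Agent.BZ.Lab.Cur
import Cfsg.Agent.BZ.Lab.Orb
import Cfsg.Agent.Blocks.CentralizerSum

/-!
# BZ / Lab: maximality in the centraliser of an `l`-element, the restriction to `C(A)` modulo `l` (helper38)

* `boxMono : BoxMono`;
* `boxSec2 : BoxSec2`.
-/

set_option autoImplicit false
set_option linter.unusedSectionVars false

namespace Cfsg.Agent.BZ.Lab

open Cfsg Subgroup Cfsg.Agent.HZ.Gen Cfsg.Agent.KM Cfsg.Agent.Characters Cfsg.Agent.Characters.Core Cfsg.Agent.Blocks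
  Cfsg.Agent.Blocks.Basic Cfsg.Agent.OddOrderCharacters.VChar Cfsg.Agent.H662 Cfsg.Agent.Blocks.Local
open scoped ComplexConjugate

namespace Mo

variable {l r m n N : ℕ} {K L : Type} [Group K] [Fintype K] [Group L] [Fintype L] {M : Ideal AlgInt}
  {α : MulAut K} {β : MulAut L} {ι : L →* K} {P : Subgroup K}

/-- a tight constituent: the restriction does not vanish at `1` -/
theorem one_ne (h : Fr l r m n N K α) (hP : IsPGroup r P) (e : Emb ι β α) (hL : ι.range = centralizer (P : Set K))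
    {ξ : IrrCharacter K} {ψ : IrrCharacter L} (hξ : St α (ξ : K → ℂ)) (h0 : classInner (rs r P ξ ∘ ι) ψ ≠ 0)
    (ht : Tight r ι P (ψ : L → ℂ)) : rs r P ξ 1 ≠ 0 := by
  obtain ⟨a, T, h1, h2, -, h3⟩ := orb_fin boxSt boxOrb h hP e hL hξ h0 ht
  have h4 := h3 1
  rw [Function.comp_apply, map_one] at h4
  rw [h4]
  refine mul_ne_zero h1 fun h5 => ?_
  choose d h6 h7 using fun φ : IrrCharacter L => isIrr_apply_one φ.2
  simp only [h7, ← Nat.cast_sum, Nat.cast_eq_zero, Finset.sum_eq_zero_iff] at h5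
  exact (h6 ψ).ne' (h5 ψ h2)

/-- a subgroup which is seen lies in a subgroup which is seen at `1` -/
theorem sees_one (h : Fr l r m n N K α) (hP : IsPGroup r P) (hs : StS α P) {ξ : IrrCharacter K} (hξ : St α (ξ : K → ℂ))
    (h0 : Sees r P (ξ : K → ℂ)) : ∃ P', P ≤ P' ∧ IsPGroup r P' ∧ StS α P' ∧ rs r P' ξ 1 ≠ 0 := by
  classical
  have : Fact r.Prime := ⟨h.rp⟩
  have := finite_irr (G := centralizer (P : Set K))
  have := Fintype.ofFinite (IrrCharacter (centralizer (P : Set K)))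
  have e := hs.cen.emb
  have hL := range_subtype (centralizer (P : Set K))
  have h1 := boxSt.rat h ξ hξ
  obtain ⟨ψ, h2⟩ : ∃ ψ : IrrCharacter (centralizer (P : Set K)), classInner (rs r P ξ ∘ (centralizer (P : Set K)).subtype) ψ ≠ 0 := by
    by_contra h2
    push Not at h2
    obtain ⟨g, hg, h3⟩ := h0
    have h4 := congrFun (classFunction_eq_sum (gen_isClassFunction (h.bg.rs_gen hP h1 h.bdr e.inj hL))) ⟨g, hg⟩
    simp only [h2, zero_smul, Finset.sum_const_zero] at h4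
    exact h3 h4
  have hψ := con_rs boxSt h hP hs e hL hξ h2
  rcases exists_root boxSt boxOrb h hP e hL hψ fun a ha g => h.bg.rs_ker hP h1 h.bdr e.inj hL ψ.2 h2 ha g with
    h3 | ⟨P₁, h3, h4, h5, i, φ, h6, h7⟩
  · exact ⟨P, le_rfl, hP, hs, one_ne h hP e hL hξ h2 h3⟩
  · refine ⟨_, h5.le, h3.map _, h4.map e, one_ne h (h3.map _) (e.comp h4.cen.emb) (range_comp e.inj hL h5.le) hξ
      (boxOrb.link h.rp h.bg h.bdr hP e.inj hL h3 h5.le (subtype_injective _) (range_subtype _) h1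
        (boxSt.rat (h.sub e) ψ hψ) h6 h2 h7) ⟨fun a ha => h6.1 a ?_, ?_⟩⟩
    · exact (mem_map_iff_mem e.inj).1 ha
    · rw [h6.2, card_map_of_injective e.inj]

/-- the induced block of a block of the centraliser of an `l`-element is defined -/
theorem ind_cen (hM : IsPModular l M) {z : K} (hz : ∃ k, orderOf z = l ^ k) {H : Subgroup K} (hH : H = centralizer {z})
    {b : Set (IrrCharacter H)} (hb : IsPBlock M b) : InducedBlockDefined M H b := by
  have : Fact l.Prime := ⟨hM.1⟩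
  have := isPrime_of_isPModular hM
  have h1 : H = centralizer (zpowers z : Set K) := by
    rw [hH, zpowers_eq_closure, centralizer_closure]
  subst h1
  obtain ⟨k, hk⟩ := hz
  exact H649.inducedBlockDefined_centralizer hM (IsPGroup.of_card (by rw [Nat.card_zpowers, hk])) hb

/-- a non-zero value in a block of `C(t)` below the block of `χ` gives a non-zero value on the section -/
theorem sec_ne (hM : IsPModular l M) (hι : Function.Injective ι) {t : L} (ht : ∃ k, orderOf t = l ^ k)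
    (hL : ι.range = centralizer {ι t}) {χ : IrrCharacter K} {η : IrrCharacter L} (hu : Up l M ι η χ) {y : L} (hy : ¬ l ∣ orderOf y)
    (h0 : (η : L → ℂ) y ≠ 0) : ∃ ξ : IrrCharacter K, SameBlock M (χ : K → ℂ) ξ ∧ (ξ : K → ℂ) (ι t * ι y) ≠ 0 := by
  classical
  have : Fact l.Prime := ⟨hM.1⟩
  have := isPrime_of_isPModular hM
  have := Fintype.ofFinite ι.range
  have := finite_irr (G := ι.range)
  have ht' : ∃ k, orderOf (ι t) = l ^ k := by rwa [orderOf_injective ι hι]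
  let f := MonoidHom.ofInjective hι
  have hy' : ¬ l ∣ orderOf (f y) := by rwa [MulEquiv.orderOf_eq]
  by_contra h1
  push Not at h1
  have h2 := CentralizerSum.sum_section hM (ι t) ht' hL (isPBlock_blockOf (M := M) χ)
    (A := {ξ | IsInducedBlock M ι.range (blockOf M (ξ : ι.range → ℂ)) (blockOf M (χ : K → ℂ))}) (fun _ => Iff.rfl) (f y) (f y) hy' hy'
  rw [finsum_mem_eq_zero_of_forall_eq_zero fun ζ hζ => by rw [show ((f y : ι.range) : K) = ι y from rfl, h1 ζ hζ, zero_mul],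
    finsum_mem_eq_finite_toFinset_sum _ (Set.toFinite _)] at h2
  simp only [Complex.mul_conj, ← Complex.ofReal_sum] at h2
  have h3 := (Finset.sum_eq_zero_iff_of_nonneg fun _ _ => Complex.normSq_nonneg _).1 (Complex.ofReal_eq_zero.1 h2.symm) (tr f η) (by
    obtain ⟨B, hB⟩ := ind_cen hM ht' hL (isPBlock_blockOf (M := M) (tr f η))
    obtain ⟨χ', h3⟩ := isPBlock_nonempty hB.2.1
    have h4 := boxUp.cj (l := l) (ι := ι.range.subtype) (ι' := ι) f.symm 1 (fun y => by
      rw [one_mul, inv_one, mul_one]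
      exact congrArg Subtype.val (f.apply_symm_apply y)) (ψ := tr f η) (ψ' := η) (fun _ => rfl)
      (boxUp.ind hB _ (mem_blockOf_self (M := M) _) χ' h3)
    rw [Set.Finite.mem_toFinset, Set.mem_ofPred_eq, blockOf_eq_of_sameBlock (boxUp.uniq hM hu h4), ← isPBlock_eq_blockOf hB.2.1 h3]
    exact hB)
  rw [tr_apply_map, Complex.normSq_eq_zero] at h3
  exact h0 h3

/-- the form of `BoxSec2` with a sum over all characters -/
theorem sec2 (hM : IsPModular l M) {C : Type} [Group C] [Fintype C] [Fintype (IrrCharacter C)] {γ : MulAut C} (k : ℕ) :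
    ∀ {K : Type} [Group K] [Fintype K] {α : MulAut K} {κ : C →* K} {A : Subgroup K}, Nat.card K = k → Gl l m N K α → Emb κ γ α →
      IsPGroup l A → StS α A → BK.Ab A → κ.range = centralizer (A : Set K) → ∀ ξ : IrrCharacter K, St α (ξ : K → ℂ) →
        ∃ c : IrrCharacter C → ℤ, (∀ η, c η ≠ 0 → St γ (η : C → ℂ) ∧ Up l M κ η ξ) ∧
          ∀ v, ¬ l ∣ orderOf v → MemLocalIdeal M ((ξ : K → ℂ) (κ v) - ∑ η, (c η : ℂ) * (η : C → ℂ) v) := by
  induction k using Nat.strong_induction_on with | _ k ih => ?_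
  intro K _ _ α κ A hk h e hA hs hab hκ ξ hξ
  classical
  have : Fact l.Prime := ⟨h.lp⟩
  have := isPrime_of_isPModular hM
  by_cases hc : A ≤ center K
  · have h1 : Function.Surjective κ := MonoidHom.range_eq_top.1 (hκ.trans (centralizer_eq_top_iff_subset.2 hc))
    let η₀ : IrrCharacter C := ⟨(ξ : K → ℂ) ∘ κ, isIrr_comp κ h1 ξ.2⟩
    refine ⟨fun η => if η = η₀ then 1 else 0, fun η hη => ?_, fun v _ => ?_⟩
    · obtain rfl : η = η₀ := by_contra fun h2 => hη (if_neg h2)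
      exact ⟨hξ.comp e, boxUp.nrm hM e.inj (fun y _ => h1 y) (by
        rw [show (ξ : K → ℂ) ∘ κ = η₀ from rfl, classInner_irr_self η₀.2]; exact one_ne_zero)⟩
    · beta_reduce
      rw [Finset.sum_eq_single η₀ (fun η _ h2 => by rw [if_neg h2, Int.cast_zero, zero_mul]) fun h2 => (h2 (Finset.mem_univ _)).elim,
        if_pos rfl, Int.cast_one, one_mul]
      exact (congrArg _ (sub_self _)).mpr memLocalIdeal_zero
  obtain ⟨t, ht, h1⟩ := SetLike.not_le_iff_exists.1 hc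
  have h2 : α t = t := boxSt.grp h A hA hs t ht
  let D := centralizer ({t} : Set K)
  have hD : StS α D := fun g => by
    simp only [D, mem_centralizer_singleton_iff]
    rw [← α.apply_eq_iff_eq (x := g * t), map_mul, map_mul, h2]
  have h3 : A ≤ D := fun a ha => mem_cen.2 (hab a ha t ht)
  have h4 : ∀ y, κ y ∈ D := fun y => mem_cen.2 ((hκ ▸ ⟨y, rfl⟩ : κ y ∈ centralizer (A : Set K)) t ht).symm
  let κ' : C →* D := κ.codRestrict D h4
  have e' : Emb κ' γ hD.res := ⟨fun a b h5 => e.inj (congrArg Subtype.val h5), fun y => Subtype.ext (e.cm y)⟩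
  have h5 : κ'.range = centralizer ((A.subgroupOf D : Subgroup D) : Set D) := by
    ext c
    rw [Cur.mem_cen_sub h3, ← hκ]
    exact ⟨fun ⟨y, h5⟩ => ⟨y, congrArg Subtype.val h5⟩, fun ⟨y, h5⟩ => ⟨y, Subtype.ext h5⟩⟩
  have hlt : Nat.card D < k := by
    rw [← hk]
    refine lt_of_le_of_ne (card_le_card_group D) fun h6 => h1 (mem_center_iff.2 fun g => ?_)
    exact mem_cen.1 ((eq_top_of_card_eq D h6).symm ▸ mem_top g : g ∈ D)
  have h6 : ∃ j, orderOf t = l ^ j := ord_of_mem hA ht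
  have h7 : ∃ j, orderOf (⟨t, h3 ht⟩ : D) = l ^ j := by rwa [orderOf_mk]
  obtain ⟨T, d, h8, h9⟩ := boxSec_of boxSt boxUp h hM hD.emb ⟨t, h3 ht⟩ (Subtype.ext h2) h7 (range_subtype _) ξ hξ
  choose! c h10 h11 using fun η (hη : η ∈ T) => ih _ hlt rfl (h.sub hD.emb) e' hA.comap_subtype (hs.comap hD.emb)
    (fun x hx y hy => Subtype.ext (hab _ hx _ hy)) h5 η (h8 η hη).1
  refine ⟨fun φ => ∑ η ∈ T, d η * c η φ, fun φ hφ => ?_, fun v hv => ?_⟩
  · obtain ⟨η, hη, h12⟩ := Finset.exists_ne_zero_of_sum_ne_zero hφ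
    have h13 := h10 η hη φ (right_ne_zero_of_mul h12)
    exact ⟨h13.1, boxUp.trans hM e'.inj h13.2 (subtype_injective D) (h8 η hη).2⟩
  · have h12 : ¬ l ∣ orderOf (κ' v) := by rwa [orderOf_injective κ' e'.inj]
    have h13 : Commute (⟨t, h3 ht⟩ : D) (κ' v) := Subtype.ext (mem_cen.1 (h4 v)).symm.eq
    have h14 : ∑ φ : IrrCharacter C, ((∑ η ∈ T, d η * c η φ : ℤ) : ℂ) * (φ : C → ℂ) v =
        ∑ η ∈ T, (d η : ℂ) * ∑ φ : IrrCharacter C, (c η φ : ℂ) * (φ : C → ℂ) v := by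
      simp only [Int.cast_sum, Int.cast_mul, Finset.sum_mul, Finset.mul_sum, mul_assoc]
      exact Finset.sum_comm
    have h15 := Cur.gen_congr hM (gen_comp D.subtype (gen_of_irr ξ.2)) h13 h7 h12
    rw [Function.comp_apply, h9 _ h12] at h15
    rw [h14]
    refine (memLocalIdeal_iff_of_sub (w := ∑ η ∈ T, (d η : ℂ) * (η : D → ℂ) (⟨t, h3 ht⟩ * κ' v) -
      ∑ η ∈ T, (d η : ℂ) * ∑ φ : IrrCharacter C, (c η φ : ℂ) * (φ : C → ℂ) v) ?_).2 (memLocalIdeal_sum_sub_sum fun η hη => ?_)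
    · rw [sub_sub_sub_cancel_right, ← neg_sub]
      exact memLocalIdeal_neg h15
    · rw [← mul_sub, ← sub_add_sub_cancel _ ((η : D → ℂ) (κ' v))]
      exact memLocalIdeal_mul_left (memLocalRing_intCast _)
        (memLocalIdeal_add (Cur.gen_congr hM (gen_of_irr η.2) h13 h7 h12) (h11 η hη v hv))

end Mo

open Mo

/-- **[Mono]** -/
theorem boxMono : BoxMono := by
  intro l r m n N K C _ _ _ _ α γ κ M P h hM e t ht hC hP χ η hχ hη hu hx P' h1 h2 h3 η' h4 h5
  have : Fact r.Prime := ⟨h.rp⟩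
  have := isPrime_of_isPModular hM
  have h' := h.sub e
  have h6 := boxSt.blk h'.toGl hM η hη η' h4
  obtain ⟨Q, h7, h8, h9, h10⟩ := sees_one h' h2 h3 h6 h5
  have h11 : t ∈ center C := mem_center_iff.2 fun y => e.inj (by
    rw [map_mul, map_mul]; exact mem_cen.1 (hC ▸ ⟨y, rfl⟩ : κ y ∈ centralizer {κ t}))
  have h12 : κ t ∈ centralizer ((Q.map κ : Subgroup K) : Set K) := by
    rintro _ ⟨a, -, rfl⟩
    rw [← map_mul, mem_center_iff.1 h11 a, map_mul]
  obtain ⟨_, ⟨a, ha, rfl⟩, h13⟩ := h.bg.exists_gn (h8.map κ) h.nr h12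
  have h14 := gn_central (inv_mem h11) (gn_map e.inj (g := a * t) (by rwa [map_mul]))
  rw [← cen_map e.inj, mem_center_iff.1 h11 a, inv_mul_cancel_left, ← mul_one a] at h14
  rw [h'.bg.rs_eq h8 (boxSt.rat h' η' h6) h.bdr (one_mem _) ha h14, mul_one] at h10
  obtain ⟨ξ, h15, h16⟩ := sec_ne hM e.inj ht hC (boxUp.congr hM h4 (sameBlock_refl _) hu)
    (not_dvd_of_r h.lp h.rp h.ne (ord_of_mem h8 ha)) h10
  have h17 := hx (Q.map κ) ((map_comap_eq_self hP).symm.le.trans (map_mono (h1.trans h7))) (h8.map κ) (h9.map e) ξ h15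
    ⟨κ t, h12, by
      rwa [h.bg.rs_eq (h8.map κ) (boxSt.rat h ξ (boxSt.blk h.toGl hM χ hχ ξ h15)) h.bdr h12 ⟨a, ha, rfl⟩ h13, h12 _ ⟨a, ha, rfl⟩]⟩
  exact h7.trans (map_le_iff_le_comap.1 h17)

/-- **[Sec2]** -/
theorem boxSec2 : BoxSec2 := by
  intro l m N K C _ _ _ _ α γ κ M A h hM e hA hs hab hκ ξ hξ
  classical
  have := finite_irr (G := C)
  have := Fintype.ofFinite (IrrCharacter C)
  obtain ⟨c, h1, h2⟩ := sec2 hM _ rfl h e hA hs hab hκ ξ hξ
  refine ⟨Finset.univ.filter (c · ≠ 0), c, fun η hη => h1 η (Finset.mem_filter.1 hη).2, fun v hv => ?_⟩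
  rw [Finset.sum_filter_of_ne (p := (c · ≠ 0)) fun η _ h3 h4 => h3 (by rw [h4, Int.cast_zero, zero_mul])]
  exact h2 v hv

end Cfsg.Agent.BZ.Lab
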