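import Cfsg.Agent.BZ.Lab.A

/-!
# BZ / Lab: block compatibility of the restriction (helper7)

`boxBC_of` : double induction on the order of the group and on the index of `P`.
-/

set_option autoImplicit false
set_option linter.unusedSectionVars false

namespace Cfsg.Agent.BZ.Lab

open Cfsg Subgroup Cfsg.Agent.HZ.Gen Cfsg.Agent.Characters Cfsg.Agent.Characters.Core Cfsg.Agent.Blocks Cfsg.Agent.Blocks.Basic
  Cfsg.Agent.OddOrderCharacters.VChar
open scoped ComplexConjugate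

variable {l r m n N : ℕ} {K L : Type} [Group K] [Fintype K] [Group L] [Fintype L] {M : Ideal AlgInt}
  {α : MulAut K} {β : MulAut L} {ι : L →* K} {P : Subgroup K}

theorem con_rs (S : BoxSt) (h : Fr l r m n N K α) (hP : IsPGroup r P) (hs : StS α P) (e : Emb ι β α)
    (hL : ι.range = centralizer (P : Set K)) {ξ : IrrCharacter K} (hξ : St α (ξ : K → ℂ)) {ψ : IrrCharacter L}
    (h0 : classInner (rs r P ξ ∘ ι) ψ ≠ 0) : St β (ψ : L → ℂ) := by
  have : Fact r.Prime := ⟨h.rp⟩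
  have h1 := h.bg.sm_rs hP (S.rat h ξ hξ) h.bdr e.inj hL
  refine S.con (h.toGl.sub e) _ h1.gen (fun y => ?_) (h1.nrm.trans_lt (by exact_mod_cast (mul_one _).le.trans_lt h.nm)) ψ h0
  have hy : ∀ y, ι y ∈ centralizer (P : Set K) := fun y => hL ▸ ⟨y, rfl⟩
  obtain ⟨a, ha, e1, e2⟩ := h.bg.gel_spec hP h.nr (hy y)
  rw [Function.comp_apply, Function.comp_apply, h.bg.rs_eq hP (S.rat h ξ hξ) h.bdr (hy (β y)) ((hs a).2 ha), e.cm, ← map_mul, hξ,
    rs, e1]
  rw [e.cm, ← map_mul]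
  intro b hb c hc
  have h2 : α.symm c ∈ centralizer (P : Set K) :=
    e2 (α.symm b) (by simpa using PPart.isPPart_map α.symm.toMonoidHom α.symm.injective hb) (mem_cen.2 ((mem_cen.1 hc).map α.symm))
  simpa using (hs.cen _).2 h2

/-- all `l`-regular elements lie in `C(P)` -/
theorem rs_all (S : BoxSt) (h : Fr l r m n N K α) (hP : IsPGroup r P) (hι : Function.Injective ι)
    (hL : ι.range = centralizer (P : Set K)) (ha : ∀ y, ¬ l ∣ orderOf y → y ∈ ι.range) {ξ : IrrCharacter K} (hξ : St α (ξ : K → ℂ)) :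
    rs r P ξ ∘ ι = (ξ : K → ℂ) ∘ ι := funext fun y => by
  have : Fact r.Prime := ⟨h.rp⟩
  have : Fact l.Prime := ⟨h.lp⟩
  obtain ⟨u, hu⟩ := PPart.exists_isPPart l (ι y)
  exact h.bg.curtis' hP (S.rat h ξ hξ) h.bdr h.ne hu (part_mem hu (hL ▸ ⟨y, rfl⟩)) (fun z _ hz => hL ▸ ha z hz) h.syl
    (by rw [mul_one]; exact h.big.trans h.mr)

/-- a root of a stable character of `L = C(P)` -/
theorem exists_root (S : BoxSt) (O : BoxOrb) (h : Fr l r m n N K α) (hP : IsPGroup r P) (e : Emb ι β α)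
    (hL : ι.range = centralizer (P : Set K)) {ψ : IrrCharacter L} (hψ : St β (ψ : L → ℂ))
    (hk : ∀ a, ι a ∈ P → ∀ g, (ψ : L → ℂ) (a * g) = (ψ : L → ℂ) g) :
    Tight r ι P (ψ : L → ℂ) ∨ ∃ P₁ : Subgroup L, IsPGroup r P₁ ∧ StS β P₁ ∧ P < P₁.map ι ∧
      ∃ (_ : Fintype (centralizer (P₁ : Set L))) (φ : IrrCharacter (centralizer (P₁ : Set L))),
        Tight r (centralizer (P₁ : Set L)).subtype P₁ φ ∧ classInner (rs r P₁ ψ ∘ (centralizer (P₁ : Set L)).subtype) φ ≠ 0 := by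
  have : Fact r.Prime := ⟨h.rp⟩
  have h' := h.sub e
  obtain ⟨R, hR⟩ := ExistsModular.exists_isPModular h.rp
  obtain ⟨P₁, h1, h2⟩ := S.dfg h'.toGl r R hR ψ hψ
  have hPL : P ≤ ι.range := hL ▸ h.bg.ab' hP
  have hc : P.comap ι ≤ center L := fun a ha => mem_center_iff.2 fun y => e.inj (by
    rw [map_mul, map_mul]
    exact ((hL ▸ ⟨y, rfl⟩ : ι y ∈ centralizer (P : Set K)) _ ha).symm)
  have h3 : P.comap ι ≤ P₁ := cen_le_defect hR (isPBlock_blockOf ψ) h1 hc (hP.comap_of_injective ι e.inj)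
  have h4 : P ≤ P₁.map ι := (map_comap_eq_self hPL).symm.le.trans (map_mono h3)
  have i := Fintype.ofFinite (centralizer (P₁ : Set L))
  obtain ⟨φ, h5, h6⟩ := O.root hR h'.bg h.bdr ψ P₁ (S.rat h' ψ hψ) h1
  rcases h4.eq_or_lt with h7 | h7
  · refine Or.inl ⟨hk, ?_⟩
    have h8 : P₁ = P.comap ι := by rw [h7, comap_map_eq_self_of_injective e.inj]
    have h9 : centralizer (P₁ : Set L) = ⊤ := by
      rw [h8]
      exact centralizer_eq_top_iff_subset.2 hc
    have h10 : Function.Surjective (centralizer (P₁ : Set L)).subtype := fun y => ⟨⟨y, h9 ▸ mem_top y⟩, rfl⟩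
    have h11 : rs r P₁ ψ ∘ (centralizer (P₁ : Set L)).subtype = (ψ : L → ℂ) ∘ (centralizer (P₁ : Set L)).subtype :=
      funext fun y => h'.bg.rs_gn (isPGroup_of_isDefectGroup h1) (S.rat h' ψ hψ) h.bdr fun _ _ => h9 ▸ le_top
    have h12 : (ψ : L → ℂ) ∘ (centralizer (P₁ : Set L)).subtype = φ := by
      by_contra hne
      exact h6 (h11 ▸ classInner_irr_ne (isIrr_comp _ h10 ψ.2) φ.2 hne)
    have h13 := h5.2
    rw [← h12, Nat.card_eq_of_bijective _ ⟨subtype_injective _, h10⟩] at h13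
    rw [h13, h7, card_map_of_injective e.inj]
    rfl
  · exact Or.inr ⟨P₁, isPGroup_of_isDefectGroup h1, h2, h7, i, φ, h5, h6⟩

theorem range_comp {P₁ : Subgroup L} (hι : Function.Injective ι) (hL : ι.range = centralizer (P : Set K)) (h : P ≤ P₁.map ι) :
    (ι.comp (centralizer (P₁ : Set L)).subtype).range = centralizer ((P₁.map ι : Subgroup K) : Set K) := by
  rw [MonoidHom.range_comp, range_subtype, cen_map hι, map_comap_eq_self (hL ▸ centralizer_le h)]

theorem fam_L (h : Fr l r m n N K α) (hP : IsPGroup r P) (e : Emb ι β α) (hL : ι.range = centralizer (P : Set K)) (hF : Fam l r α P)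
    {P₁ : Subgroup L} (h1 : P ≤ P₁.map ι) : Fam l r β P₁ :=
  have : Fact r.Prime := ⟨h.rp⟩
  (hF.sub h e (hL ▸ h.bg.ab' hP) hL.ge).mono ((comap_mono h1).trans (comap_map_eq_self_of_injective e.inj _).le)

/-- the statement for a group and a subgroup -/
def BCs (l r m n N : ℕ) (M : Ideal AlgInt) (K : Type) [Group K] [Fintype K] (P : Subgroup K) : Prop :=
  ∀ {L : Type} [Group L] [Fintype L] {α : MulAut K} {β : MulAut L} {ι : L →* K}, Fr l r m n N K α → IsPGroup r P → StS α P →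
    Emb ι β α → ι.range = centralizer (P : Set K) → Fam l r α P → ∀ {ξ : IrrCharacter K} {ψ : IrrCharacter L}, St α (ξ : K → ℂ) →
      classInner (rs r P ξ ∘ ι) ψ ≠ 0 → Up l M ι ψ ξ

section step

variable (S : BoxSt) (U : BoxUp) (V : BoxUf) (X : BoxSec) (O : BoxOrb) (hM : IsPModular l M)
  (ih : ∀ (C : Type) [Group C] [Fintype C], Nat.card C < Nat.card K → ∀ Q : Subgroup C, BCs l r m n N M C Q)
  (ih' : ∀ P', P < P' → BCs l r m n N M K P') (h : Fr l r m n N K α) (hP : IsPGroup r P) (hs : StS α P) (e : Emb ι β α)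
  (hL : ι.range = centralizer (P : Set K)) (hF : Fam l r α P) {ξ : IrrCharacter K} {ψ : IrrCharacter L} (hξ : St α (ξ : K → ℂ))
  (h0 : classInner (rs r P ξ ∘ ι) ψ ≠ 0)

include S U O hM ih ih' h hP hs e hL hF hξ h0 in
theorem step_nt (hlt : Nat.card L < Nat.card K) : Tight r ι P (ψ : L → ℂ) ∨ Up l M ι ψ ξ := by
  have : Fact r.Prime := ⟨h.rp⟩
  have := Local.isPrime_of_isPModular hM
  have hψ := con_rs S h hP hs e hL hξ h0
  refine (exists_root S O h hP e hL hψ fun a ha g => h.bg.rs_ker hP (S.rat h ξ hξ) h.bdr e.inj hL ψ.2 h0 ha g).imp_right ?_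
  rintro ⟨P₁, h1, h2, h3, i, φ, h4, h5⟩
  have h6 := O.link h.rp h.bg h.bdr hP e.inj hL h1 h3.le (subtype_injective _) (range_subtype _) (S.rat h ξ hξ)
    (S.rat (h.sub e) ψ hψ) h4 h0 h5
  have h7 := ih L hlt P₁ (h.sub e) h1 h2 h2.cen.emb (range_subtype _) (fam_L h hP e hL hF h3.le) hψ h5
  have h8 := ih' _ h3 h (h1.map ι) (h2.map e) (e.comp h2.cen.emb) (range_comp e.inj hL h3.le) (hF.mono h3.le) hξ h6
  obtain ⟨χ, h9⟩ := U.ex hM e.inj (hL ▸ hF P le_rfl hP hs) ψ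
  exact U.congr hM (sameBlock_refl _) (U.uniq hM (U.trans hM (subtype_injective _) h7 e.inj h9) h8) h9

include S O h hP e hL hξ h0 in
theorem orb_fin (ht : Tight r ι P (ψ : L → ℂ)) : ∃ (a : ℤ) (T : Finset (IrrCharacter L)), (a : ℂ) ≠ 0 ∧ ψ ∈ T ∧
    (∀ φ, φ ∈ T ↔ φ ∈ Orb ι P (ψ : L → ℂ)) ∧ ∀ y, (rs r P ξ ∘ ι) y = a * ∑ φ ∈ T, (φ : L → ℂ) y := by
  have := finite_irr (G := L)
  obtain ⟨a, ha⟩ := O.orb h.rp h.bg h.bdr hP e.inj hL (S.rat h ξ hξ) ht h0
  refine ⟨a, (Set.toFinite (Orb ι P (ψ : L → ℂ))).toFinset, fun h1 => h0 ?_, ?_, fun φ => Set.Finite.mem_toFinset _, fun y => ?_⟩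
  · rw [show rs r P ξ ∘ ι = 0 from funext fun y => by rw [Function.comp_apply, ha, h1, zero_mul, Pi.zero_apply], classInner_zero_left]
  · exact (Set.Finite.mem_toFinset _).2 ⟨1, one_mem _, fun y y' h1 => by rw [e.inj (h1.trans (by simp) : ι y' = ι y)]⟩
  · rw [Function.comp_apply, ha, finsum_mem_eq_finite_toFinset_sum]

include S U V X O hM ih h hP hs e hL hF hξ h0 in
theorem step_triv (ht : Tight r ι P (ψ : L → ℂ)) (hz : ∀ z ∈ Zs l L, ∀ y, (ψ : L → ℂ) (z * y) = (ψ : L → ℂ) y) {t : L}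
    (h1 : t ∈ Zs l L) (h2 : ι t ∉ center K) : Up l M ι ψ ξ := by
  classical
  have : Fact r.Prime := ⟨h.rp⟩
  have : Fact l.Prime := ⟨h.lp⟩
  have := Local.isPrime_of_isPModular hM
  have h3 : α (ι t) = ι t := by rw [← e.cm, S.grp (h.toGl.sub e) _ zs_p (zs_st β) t h1]
  set C := centralizer ({ι t} : Set K)
  have hC : StS α C := fun g => by
    rw [mem_cen, mem_cen]
    exact ⟨fun h4 => α.injective (by rw [map_mul, map_mul, h3]; exact h4), fun h4 => h3 ▸ h4.map α⟩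
  have hLC : ∀ y, ι y ∈ C := fun y => mem_cen.2 (by rw [Commute, SemiconjBy, ← map_mul, mem_center_iff.1 h1.1 y, map_mul])
  have hPC : centralizer (P : Set K) ≤ C.subtype.range := by
    rw [← hL, range_subtype]
    rintro _ ⟨y, rfl⟩
    exact hLC y
  have hPC' : P ≤ C.subtype.range := (h.bg.ab' hP).trans hPC
  let κ : L →* C := ι.codRestrict C hLC
  have eκ : Emb κ β hC.res := ⟨fun a b h4 => e.inj (congrArg Subtype.val h4), fun y => Subtype.ext (e.cm y)⟩
  have hκ : κ.range = centralizer ((P.comap C.subtype : Subgroup C) : Set C) := by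
    rw [cen_comap (subtype_injective C) hPC', ← hL]
    ext c
    exact ⟨fun ⟨y, h4⟩ => ⟨y, congrArg Subtype.val h4⟩, fun ⟨y, h4⟩ => ⟨y, Subtype.ext h4⟩⟩
  have hlt : Nat.card C < Nat.card K := by
    refine lt_of_le_of_ne (card_le_card_group C) fun h4 => h2 (mem_center_iff.2 fun g => ?_)
    exact mem_cen.1 ((eq_top_of_card_eq C h4).symm ▸ mem_top g : g ∈ C)
  have htc : κ t ∈ center C := mem_center_iff.2 fun c => Subtype.ext (mem_cen.1 c.2)
  obtain ⟨k, hk⟩ := h1.2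
  obtain ⟨j, -, hj⟩ := (Nat.dvd_prime_pow h.lp).1 (orderOf_dvd_of_pow_eq_one hk)
  obtain ⟨T, c, h4, h5⟩ := X h.toGl hM hC.emb (κ t) (Subtype.ext h3) ⟨j, by rw [orderOf_injective κ eκ.inj, hj]⟩
    (range_subtype C) ξ hξ
  obtain ⟨a, T', h6, h7, h8, h9⟩ := orb_fin S O h hP e hL hξ h0 ht
  obtain ⟨φ, h10, -, h11⟩ := exists_nz V hM h6 T' h9 h7
  have h12 : tc l (rs r P ξ ∘ ι) = tc l fun y => ∑ η ∈ T, (c η : ℂ) * (rs r (P.comap C.subtype) η ∘ κ) (t * y) :=
    tc_congr fun y hy => by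
      have h13 := rs_sec S h hP hC.emb hPC' htc (fun η hη => (h4 η hη).1) h5 (v := κ y) (hL ▸ ⟨y, rfl⟩ : ι y ∈ _)
        (by rwa [orderOf_injective κ eκ.inj])
      rw [← map_mul] at h13
      refine Eq.trans ?_ h13
      show _ = (rs r P ξ ∘ ι) (t * y)
      rw [h9, h9]
      refine congrArg _ (Finset.sum_congr rfl fun η hη => ?_)
      obtain ⟨g, hg, h14⟩ := (h8 η).1 hη
      obtain ⟨σ, hσ⟩ := exists_aut e.inj hL hg
      have h15 : ∀ x, (η : L → ℂ) x = (ψ : L → ℂ) (σ.symm x) := fun x => h14 _ _ (by rw [← hσ, σ.apply_symm_apply])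
      rw [h15, h15, map_mul, hz _ (zs_aut σ.symm h1)]
  rw [h12, inner_tc_sum] at h11
  obtain ⟨η, hη, h13⟩ := Finset.exists_ne_zero_of_sum_ne_zero h11
  have h' := h.sub hC.emb
  have hP' := hP.comap_of_injective C.subtype (subtype_injective C)
  have h14 : ∃ φ' : IrrCharacter L, SameBlock M (φ : L → ℂ) φ' ∧ classInner (rs r (P.comap C.subtype) η ∘ κ) φ' ≠ 0 := by
    by_contra h15
    push Not at h15
    exact right_ne_zero_of_mul h13 (sec_zero V hM (gen_isClassFunction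
      (h'.bg.rs_gen hP' (S.rat h' η (h4 η hη).1) h.bdr eκ.inj hκ)) h15 h1.1)
  obtain ⟨φ', h15, h16⟩ := h14
  have h17 := ih C hlt _ h' hP' (hs.comap hC.emb) eκ hκ (hF.sub h hC.emb hPC' hPC) (h4 η hη).1 h16
  exact U.congr hM (sameBlock_symm (sameBlock_trans h10 h15)) (sameBlock_refl _)
    (U.trans hM eκ.inj h17 (subtype_injective C) (h4 η hη).2)

include S U V X O hM ih ih' in
theorem step : BCs l r m n N M K P := by
  intro L _ _ α β ι h hP hs e hL hF ξ ψ hξ h0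
  have : Fact r.Prime := ⟨h.rp⟩
  have := Local.isPrime_of_isPModular hM
  by_cases ha : ∀ y, ¬ l ∣ orderOf y → y ∈ ι.range
  · exact U.nrm hM e.inj ha (rs_all S h hP e.inj hL ha hξ ▸ h0)
  have hlt : Nat.card L < Nat.card K := by
    refine lt_of_le_of_ne (Nat.card_le_card_of_injective ι e.inj) fun h1 => ha fun y _ => ?_
    exact ((Nat.bijective_iff_injective_and_card ι).2 ⟨e.inj, h1⟩).2 y
  obtain ⟨t, h1, h2⟩ : ∃ t ∈ Zs l L, ι t ∉ center K := by
    by_contra h1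
    push Not at h1
    obtain ⟨Q, h2, h3, h4⟩ := hF P le_rfl hP hs
    refine ha fun y hy => hL ▸ h4 y (fun q hq => ?_) hy
    obtain ⟨t, rfl⟩ : q ∈ ι.range := hL ▸ fun x hx => (h3 (h.bg.ab' hP hx) q hq).symm
    refine (mem_center_iff.1 (h1 t ⟨mem_center_iff.2 fun x => e.inj ?_, (h2 ⟨_, hq⟩).imp fun k hk => e.inj ?_⟩) y).symm
    · rw [map_mul, map_mul]
      exact (h3 (hL ▸ ⟨x, rfl⟩ : ι x ∈ centralizer (P : Set K)) _ hq).symm
    · rw [map_pow, map_one]
      exact congrArg Subtype.val hk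
  refine (step_nt S U O hM ih ih' h hP hs e hL hF hξ h0 hlt).elim (fun ht => ?_) id
  obtain ⟨a, T, h3, h4, -, h5⟩ := orb_fin S O h hP e hL hξ h0 ht
  obtain ⟨φ, h6, h7, h8⟩ := exists_nz V hM h3 T h5 h4
  by_contra hn
  refine h8 (rs_tc V h hM hP e.inj hL fun ξ' h9 => by_contra fun h10 => hn ?_)
  have h11 := S.blk h.toGl hM ξ hξ ξ' h9
  exact U.congr hM (sameBlock_symm h6) (sameBlock_symm h9) ((step_nt S U O hM ih ih' h hP hs e hL hF h11 h10 hlt).elim
    (fun ht' => step_triv S U V X O hM ih h hP hs e hL hF h11 h10 ht' h7 h1 h2) id)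

end step

theorem boxBC_of (S : BoxSt) (U : BoxUp) (V : BoxUf) (X : BoxSec) (O : BoxOrb) : BoxBC := by
  intro l r m n N K L _ _ _ _ α β ι M P h hM
  have key : ∀ (k : ℕ) (K : Type) [Group K] [Fintype K], Nat.card K = k → ∀ P : Subgroup K, BCs l r m n N M K P := fun k => by
    induction k using Nat.strong_induction_on with
    | _ k ih =>
      intro K _ _ hk P
      induction P using WellFoundedGT.induction with
      | _ P ih' => exact step S U V X O hM (fun C _ _ hC Q => ih _ (hk ▸ hC) C rfl Q) ih'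
  exact key _ K rfl P h

end Cfsg.Agent.BZ.Lab
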