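import Cfsg.Agent.BZ.Lab.Defs
import Cfsg.Agent.LV.Lift.Bij
import Cfsg.Agent.LV.Blk.Gen
import Cfsg.Agent.H646.RegInner
import Cfsg.Agent.Blocks.HeightZeroSection
import Cfsg.Agent.Blocks.DefectCard
import Cfsg.Agent.S4426

/-!
# BZ / Lab: the Glauberman correspondence preserves blocks and heights (helper94)

* `Sit`, `Gc` : the situation and the correspondence; `key` : small multiplicities agree up to a sign;
* `Sit.same`, `Sit.deg`, `Sit.img` : blocks, `l`-parts of the degrees.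
-/

set_option autoImplicit false
set_option linter.unusedSectionVars false

namespace Cfsg.Agent.BZ.Lab.W

open Cfsg Subgroup Cfsg.Agent.HZ.Gen Cfsg.Agent.Characters.Core Cfsg.Agent.OddOrderCharacters.VChar
  Cfsg.Agent.H593.GlaubermanP Cfsg.Agent.Blocks Cfsg.Agent.Blocks.Local
open scoped ComplexConjugate Pointwise

section gen

variable {l q B : ℕ} {M : Ideal AlgInt} {G : Type} [Group G] [Fintype G] {f : G → ℂ}

theorem abs_le (hf : IsGeneralizedCharacter G f) (χ : IrrCharacter G) (hB : (classInner f f).re ≤ B) :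
    ∃ a : ℤ, classInner f χ = a ∧ |a| ≤ B := by
  classical
  have := finite_irr (G := G)
  let _ := Fintype.ofFinite (IrrCharacter G)
  obtain ⟨n, hn⟩ := isGeneralizedCharacter_iff.1 hf
  have h1 : ∀ χ : IrrCharacter G, classInner f (χ : G → ℂ) = n χ := fun χ => by rw [hn, classInner_sum_zsmul_irr]
  have h2 : classInner f f = ((∑ χ, n χ * n χ : ℤ) : ℝ) := by
    nth_rw 2 [hn]
    rw [classInner_sum_right]
    push_cast
    refine Finset.sum_congr rfl fun χ _ => ?_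
    rw [← Int.cast_smul_eq_zsmul ℂ, classInner_smul_right, h1, map_intCast]
  rw [h2, Complex.ofReal_re] at hB
  have h3 := (Finset.single_le_sum (f := fun χ => n χ * n χ) (fun χ _ => mul_self_nonneg _) (Finset.mem_univ χ)).trans
    (show _ ≤ (B : ℤ) by exact_mod_cast hB)
  exact ⟨n χ, h1 χ, (Int.natCast_natAbs _ ▸ (Int.natAbs_le_self_sq _).trans_eq (sq _)).trans h3⟩

open Classical in
theorem norm_le {lam : G → ℂ} {c : ℕ} (h : ∀ y, ‖lam y‖ ≤ q) (hc : ∑ y with lam y ≠ 0, ‖f y‖ ^ 2 ≤ Nat.card G * c) :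
    (classInner (lam * f) (lam * f)).re ≤ (q ^ 2 * c : ℕ) := by
  have h0 : (0 : ℝ) < Nat.card G := Nat.cast_pos.2 Nat.card_pos
  refine le_of_mul_le_mul_left ?_ h0
  rw [← re_inner]
  calc ∑ x, ‖(lam * f) x‖ ^ 2 ≤ ∑ x with lam x ≠ 0, (q : ℝ) ^ 2 * ‖f x‖ ^ 2 := by
        rw [Finset.sum_filter]
        refine Finset.sum_le_sum fun x _ => ?_
        rw [Pi.mul_apply, norm_mul, mul_pow]
        split_ifs with e
        · exact mul_le_mul_of_nonneg_right (pow_le_pow_left₀ (norm_nonneg _) (h x) 2) (sq_nonneg _)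
        · simp [not_not.1 e]
    _ ≤ q ^ 2 * (Nat.card G * c) := by
        rw [← Finset.mul_sum]
        exact mul_le_mul_of_nonneg_left hc (sq_nonneg _)
    _ = _ := by push_cast; ring

theorem pr_eq [Fintype (ConjClasses G)] (η : IrrCharacter G) (hf : IsClassFunction G f) : classInner f η / (η : G → ℂ) 1 =
    ∑ c : ConjClasses G, centralChar (η : G → ℂ) (Quotient.out c : G) * ((Nat.card G : ℂ)⁻¹ * f (Quotient.out c : G)⁻¹) := by
  have h := LV.Blk.om_eq_sum (φ := fun g => conj (f g⁻¹)) (Basic.irr_isClassFunction η.2) fun g h => by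
    simp only [← hf g⁻¹ h, mul_inv_rev, inv_inv, mul_assoc]
  simp only [Complex.conj_conj, LV.Blk.om_eq] at h
  simp only [mul_left_comm _ (Nat.card G : ℂ)⁻¹]
  rw [← Finset.mul_sum, ← h, classInner_def, mul_div_assoc, ← Equiv.sum_comp (Equiv.inv G)]
  refine congrArg (fun s => _ * (s / _)) (Finset.sum_congr rfl fun g _ => ?_)
  rw [Equiv.inv_apply, ← isCharacter_apply_inv (isIrr_isCharacter η.2), inv_inv, mul_comm]

/-- `q` on the `l`-regular elements -/
noncomputable def lam (l q : ℕ) (x : G) : ℂ := if l ∣ orderOf x then 0 else q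

theorem lam_mul (f : G → ℂ) : lam l q * f = fun x => if l ∣ orderOf x then 0 else (q : ℂ) * f x := funext fun x => by
  rw [Pi.mul_apply, lam]
  split_ifs <;> simp

theorem lam_hom {G' : Type} [Group G'] {i : G →* G'} (hi : Function.Injective i) (x : G) : lam l q (i x) = lam l q x := by
  rw [lam, lam, orderOf_injective i hi]

theorem lam_cls (hf : IsClassFunction G f) : IsClassFunction G (lam l q * f) := fun g h => by
  rw [Pi.mul_apply, Pi.mul_apply, hf]
  exact congrArg (· * _) (lam_hom (i := (MulAut.conj h).toMonoidHom) (MulAut.conj h).injective g)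

/-- the `l`-part of the order -/
noncomputable abbrev qq (l : ℕ) (G : Type) : ℕ := l ^ (Nat.card G).factorization l

theorem q_ring (hM : IsPModular l M) : MemLocalRing M ((Nat.card G : ℂ)⁻¹ * (qq l G : ℕ)) := by
  rw [inv_mul_eq_div]
  exact DefectCard.memLocalRing_natDiv hM Nat.card_pos.ne' (by rw [hM.1.factorization_pow, Finsupp.single_eq_same])

theorem pr_ring (hM : IsPModular l M) (η : IrrCharacter G) (hf : IsClassFunction G f) (h : ∀ g, MemLocalRing M (f g)) :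
    MemLocalRing M (classInner (lam l (qq l G) * f) η / (η : G → ℂ) 1) := by
  classical
  have := isPrime_of_isPModular hM
  have := Fintype.ofFinite (ConjClasses G)
  rw [pr_eq η (lam_cls hf)]
  refine memLocalRing_sum fun c _ => memLocalRing_mul (memLocalRing_of_isIntegral (Central.isIntegral_centralChar η.2 _)) ?_
  rw [Pi.mul_apply, lam]
  split_ifs
  · simpa using memLocalRing_zero
  · exact mul_assoc (_ : ℂ) _ _ ▸ memLocalRing_mul (q_ring hM) (h _)

theorem pr_ideal (hM : IsPModular l M) (η : IrrCharacter G) (hf : IsClassFunction G f)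
    (h : ∀ g, ¬ l ∣ orderOf g → MemLocalIdeal M (f g)) : MemLocalIdeal M (classInner (lam l (qq l G) * f) η / (η : G → ℂ) 1) := by
  classical
  have := isPrime_of_isPModular hM
  have := Fintype.ofFinite (ConjClasses G)
  rw [pr_eq η (lam_cls hf)]
  refine memLocalIdeal_sum fun c _ => memLocalIdeal_mul_left (memLocalRing_of_isIntegral (Central.isIntegral_centralChar η.2 _)) ?_
  rw [Pi.mul_apply, lam]
  split_ifs with e
  · simpa using memLocalIdeal_zero
  · exact mul_assoc (_ : ℂ) _ _ ▸ memLocalIdeal_mul_left (q_ring hM) (h _ e)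

theorem lam_reg (f : G → ℂ) : lam l q * f = (q : ℂ) • pRegularPart l f := funext fun x => by
  rw [Pi.mul_apply, lam, Pi.smul_apply, pRegularPart, IsPRegular]
  split_ifs <;> simp

/-- the multiplicity -/
noncomputable abbrev nn (l : ℕ) (χ ψ : IrrCharacter G) : ℂ := classInner (lam l (qq l G) * (χ : G → ℂ)) ψ

/-- the exponent of `l` in the degree -/
noncomputable abbrev vv (l : ℕ) (χ : IrrCharacter G) : ℕ := (charDegree (χ : G → ℂ)).factorization l

theorem lam_gen [Fact l.Prime] : IsGeneralizedCharacter G (lam l (qq l G)) := by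
  have h := S0961.result l (⟨fun _ => 1, isIrr_one⟩ : IrrCharacter G)
  rw [← lam_mul] at h
  exact mul_one (lam l (qq l G) : G → ℂ) ▸ h

theorem half {G' : Type} [Group G'] [Fintype G'] (hM : IsPModular l M) {R : IrrCharacter G → IrrCharacter G' → Prop}
    (hR : ∀ a a' b b', R a a' → R b b' → ∃ ε : ℤ, (ε = 1 ∨ ε = -1) ∧ nn l a' b' = ε * nn l a b) {a : IrrCharacter G}
    {a' : IrrCharacter G'} (h : R a a') (hex : ∀ b ∈ blockOf M (a : G → ℂ), ∃ b', R b b') :
    vv l a' ≤ vv l a ∧ ∀ b b', R b b' → b ∈ blockOf M (a : G → ℂ) → b' ∈ blockOf M (a' : G' → ℂ) := by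
  have := Fact.mk hM.1
  have := isPrime_of_isPModular hM
  obtain ⟨c, hc, h0⟩ := HeightZeroSection.exists_height_zero ⟨a, Basic.mem_blockOf_self (M := M) a⟩ l
  obtain ⟨c', hc'⟩ := hex c hc
  have h1 : ∀ b b', R b b' → b ∈ blockOf M (a : G → ℂ) → vv l b' ≤ vv l b ∧ b' ∈ blockOf M (c' : G' → ℂ) := fun b b' h1 h2 => by
    obtain ⟨n, h3, h4, h5⟩ := (S4426.result l M hM _ (Basic.isPBlock_blockOf a) c hc).2.1 h0 b h2
    obtain ⟨ε, h6, h7⟩ := hR _ _ _ _ hc' h1
    rw [← lam_mul] at h3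
    rw [show nn l c b = n from h3, ← Int.cast_mul] at h7
    have h8 : ε * n ≠ 0 := mul_ne_zero (by omega) h4
    refine ⟨?_, by_contra fun h9 => Int.cast_ne_zero.2 h8 (h7.symm.trans ?_)⟩
    · have h9 := LV.Blk.fact_le_of_ring hM (a := ε * n) (b := (charDegree (b' : G' → ℂ) : ℕ))
        (pr_ring hM b' (Basic.irr_isClassFunction c'.2) (memLocalRing_irr c'))
        (by rw [← h7, Int.cast_natCast, ← Basic.irr_one_eq_charDegree b'.2, mul_div_cancel₀ _ (isIrr_apply_one_ne_zero b'.2)]) h8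
      rw [Int.natAbs_natCast, show (ε * n).natAbs = n.natAbs by rcases h6 with e | e <;> simp [e]] at h9
      exact h9.trans_eq ((Nat.factorization_def _ hM.1).trans h5)
    · rw [nn, lam_reg, classInner_smul_left, H646.RegInner.classInner_pRegularPart_eq_zero hM (Basic.isPBlock_blockOf c')
        (Basic.mem_blockOf_self c') h9, mul_zero]
  have h2 := h1 a a' h (Basic.mem_blockOf_self a)
  exact ⟨h2.1, fun b b' h3 h4 => Basic.isPBlock_sameBlock (Basic.isPBlock_blockOf c') h2.2 (h1 b b' h3 h4).2⟩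

end gen

/-- the situation -/
structure Sit (l m N : ℕ) {K H : Type} [Group K] [Group H] (α : MulAut K) (j : H →* K) : Prop where
  gl : Gl l m N K α
  inj : Function.Injective j
  fix : ∀ g, α g = g ↔ g ∈ j.range

/-- the correspondence -/
def Gc (m : ℕ) {K H : Type} [Group K] [Group H] [Fintype H] (α : MulAut K) (j : H →* K) (χ : IrrCharacter K)
    (ξ : IrrCharacter H) : Prop :=
  St α (χ : K → ℂ) ∧ ∃ k : ℕ, ¬ m ∣ k ∧ classInner ((χ : K → ℂ) ∘ j) ξ = k

variable {l m N : ℕ} {M : Ideal AlgInt} {K H : Type} [Group K] [Fintype K] [Group H] [Fintype H] {α : MulAut K} {j : H →* K}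
  {χ χ' : IrrCharacter K} {ξ ξ' : IrrCharacter H}

namespace Sit

theorem setup (S : Sit l m N α j) : Setup (zpowers α) j m :=
  have := Fact.mk S.gl.mp
  LV.Lift.setup S.gl.pow S.inj S.fix fun h => S.gl.cop (h.trans (card_dvd_of_injective j S.inj))

theorem bij (S : Sit l m N α j) : ∃ e : IrrCharacter H → IrrCharacter K, Function.Injective e ∧ (∀ ξ, Gc m α j (e ξ) ξ) ∧
    ∀ χ : IrrCharacter K, St α (χ : K → ℂ) → χ ∈ Set.range e := by
  have := Fact.mk S.gl.mp
  obtain ⟨e, h1, h2, h3⟩ := LV.Lift.exists_bij S.setup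
  exact ⟨e, h1, fun ξ => ⟨(h2 _).2 ⟨ξ, rfl⟩, h3 ξ⟩, fun χ h => (h2 χ).1 h⟩

theorem up (S : Sit l m N α j) (ξ : IrrCharacter H) : ∃ χ, Gc m α j χ ξ := let ⟨_, _, h, _⟩ := S.bij; ⟨_, h ξ⟩

theorem down (S : Sit l m N α j) (h : St α (χ : K → ℂ)) : ∃ ξ, Gc m α j χ ξ := by
  obtain ⟨e, -, h1, h2⟩ := S.bij
  obtain ⟨ξ, rfl⟩ := h2 χ h
  exact ⟨ξ, h1 ξ⟩

theorem cong (S : Sit l m N α j) (h : Gc m α j χ ξ) : ∃ (ε : ℤ) (θ : H → ℂ), (ε = 1 ∨ ε = -1) ∧ IsGeneralizedCharacter H θ ∧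
    ∀ c, (χ : K → ℂ) (j c) = ε * (ξ : H → ℂ) c + m * θ c := by
  classical
  have := Fact.mk S.gl.mp
  obtain ⟨M, hM⟩ := ExistsModular.exists_isPModular S.gl.mp
  obtain ⟨h1, k, hk, h2⟩ := h
  have hi : Inv (zpowers α) (χ : K → ℂ) := LV.Lift.inv_zpowers _ h1
  have := finite_irr (G := H)
  have := Fintype.ofFinite (IrrCharacter H)
  obtain ⟨n, hn⟩ := isGeneralizedCharacter_iff.1 (gen_comp j (gen_of_irr χ.2))
  obtain ⟨ε, hε, h3⟩ : ∃ ε : ℤ, (ε = 1 ∨ ε = -1) ∧ (k : ℤ) ≡ ε [ZMOD m] :=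
    (mult_modEq S.setup hM hi h2 hk).elim (fun h => ⟨1, Or.inl rfl, h⟩) fun h => ⟨-1, Or.inr rfl, h⟩
  have h4 : ∀ β, ∃ c : ℤ, n β = (if β = ξ then ε else 0) + m * c := fun β => by
    obtain ⟨r, hr⟩ := exists_mult (ι := j) χ β
    have h5 : n β = r := Int.cast_injective (α := ℂ) (by rw [← classInner_sum_zsmul_irr n β, ← hn, hr, Int.cast_natCast])
    split_ifs with e
    · subst e
      obtain ⟨c, hc⟩ := h3.symm.dvd
      rw [h5, Nat.cast_injective (R := ℂ) (hr.symm.trans h2)]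
      exact ⟨c, by linear_combination hc⟩
    · obtain ⟨c, rfl⟩ : m ∣ r := by_contra fun h6 =>
        e (unique_beta S.setup hM hi (mt (good_iff S.setup hM hr).1 h6) (mt (good_iff S.setup hM h2).1 hk))
      exact ⟨c, by rw [h5, zero_add, Nat.cast_mul]⟩
  choose c hc using h4
  refine ⟨ε, _, hε, isGeneralizedCharacter_iff.2 ⟨c, rfl⟩, fun x => (congrFun hn x).trans ?_⟩
  simp [hc, add_mul, Finset.sum_add_distrib, Finset.mul_sum, mul_assoc, ite_apply]

/-- **small multiplicities agree up to a sign** -/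
theorem key {C' C : Type} [Group C'] [Fintype C'] [Group C] [Fintype C] {γ : MulAut C'} {i : C →* C'} (S : Sit l m N α j)
    (S' : Sit l m N γ i) {κ' : C' →* K} {κ : C →* H} (e : ∀ y, κ' (γ y) = α (κ' y)) (hc : ∀ y, κ' (i y) = j (κ y))
    {η' : IrrCharacter C'} {η : IrrCharacter C} (h : Gc m α j χ ξ) (h' : Gc m γ i η' η) {u' : C' → ℂ} {u : C → ℂ}
    (hg : IsGeneralizedCharacter C' u') (hs : St γ u') (hu : ∀ y, u' (i y) = u y) {B : ℕ} (hB : 2 * B < m)
    (n1 : (classInner (u' * (χ : K → ℂ) ∘ κ') (u' * (χ : K → ℂ) ∘ κ')).re ≤ B)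
    (n2 : (classInner (u * (ξ : H → ℂ) ∘ κ) (u * (ξ : H → ℂ) ∘ κ)).re ≤ B) :
    ∃ ε : ℤ, (ε = 1 ∨ ε = -1) ∧ classInner (u' * (χ : K → ℂ) ∘ κ') η' = ε * classInner (u * (ξ : H → ℂ) ∘ κ) η := by
  have := Fact.mk S.gl.mp
  obtain ⟨ψ⟩ := DL.CF.exists_embedding m
  obtain ⟨ε, θ, h1, h2, h3⟩ := S.cong h
  obtain ⟨h4, k, h5, h6⟩ := h'
  obtain ⟨ε', h7, h8⟩ := LV.Lift.glaub_mult ψ S'.setup η.2 η' h4 h5 h6
  have h9 := gen_mul hg (gen_comp κ' (gen_of_irr χ.2))
  obtain rfl : u' ∘ i = u := funext hu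
  obtain ⟨a, ha, ha'⟩ := abs_le h9 η' n1
  obtain ⟨b, hb, hb'⟩ := abs_le (gen_mul (gen_comp i hg) (gen_comp κ (gen_of_irr ξ.2))) η n2
  have h10 := h8 _ ((ε : ℂ) • (u' ∘ i * (ξ : H → ℂ) ∘ κ)) h9
    (fun g => by simp only [Pi.mul_apply, Function.comp_apply, hs g, e, h.1 _]) (fun c => by
      refine (LV.Lift.Sm.mul_right (a := m) (by simpa [LV.Lift.Sm] using DL.Lef.padicComplex_norm_lt_one m)
        (LV.Lift.mem_of_isIntegral ((LV.Blk.gen_int hg (i c)).mul (LV.Blk.gen_int h2 (κ c))))).of_eq ?_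
      simp only [Pi.mul_apply, Function.comp_apply, hc, h3, Pi.smul_apply, smul_eq_mul]
      ring) a (ε * b) ha (by rw [classInner_smul_left, hb, Int.cast_mul])
  have h11 := _root_.abs_le.1 ha'
  have h12 := _root_.abs_le.1 hb'
  have h13 := Int.eq_zero_of_abs_lt_dvd h10 (abs_lt.2 (by rcases h1 with e | e <;> rcases h7 with e' | e' <;> rw [e, e'] <;> omega))
  refine ⟨ε * ε', by rcases h1 with e | e <;> rcases h7 with e' | e' <;> simp [e, e'], ?_⟩
  rw [ha, hb, show a = ε * ε' * b by rcases h1 with e | e <;> rcases h7 with e' | e' <;> rw [e, e'] at h13 ⊢ <;> omega, Int.cast_mul]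

theorem card (hS : BoxSt) (S : Sit l m N α j) : (Nat.card H).factorization l = (Nat.card K).factorization l := by
  have := Fact.mk S.gl.lp
  have := Fact.mk S.gl.mp
  obtain ⟨P, hP⟩ := S.setup.pgroup.nonempty_fixed_point_of_prime_not_dvd_card (Sylow l K) fun h =>
    S.gl.cop (h.trans ((Sylow.card_dvd_index default).trans (index_dvd_card _)))
  have h1 : StS α (P : Subgroup K) := fun g => by
    conv_lhs => rw [← hP ⟨α, mem_zpowers α⟩]
    exact smul_mem_pointwise_smul_iff (a := (⟨α, mem_zpowers α⟩ : zpowers α))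
  have h2 : (P : Subgroup K) ≤ j.range := fun x hx => (S.fix x).1 (hS.grp S.gl P P.isPGroup' h1 x hx)
  refine le_antisymm ((Nat.factorization_le_iff_dvd Nat.card_pos.ne' Nat.card_pos.ne').2 (card_dvd_of_injective j S.inj) l) ?_
  rw [← S.gl.lp.pow_dvd_iff_le_factorization Nat.card_pos.ne', ← P.card_eq_multiplicity,
    Nat.card_congr (MonoidHom.ofInjective S.inj).toEquiv]
  exact card_dvd_of_le h2

theorem cube (S : Sit l m N α j) : 2 * N ^ 3 < m := by
  have h := S.gl.big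
  have h1 : N ^ 3 ≤ N ^ 4 := by
    rcases N.eq_zero_or_pos with e | e
    · simp [e]
    · exact Nat.pow_le_pow_right e (by norm_num)
  nlinarith [Nat.zero_le (N ^ 4 * N ^ 4)]

theorem key0 (hS : BoxSt) (S : Sit l m N α j) (h : Gc m α j χ ξ) (h' : Gc m α j χ' ξ') :
    ∃ ε : ℤ, (ε = 1 ∨ ε = -1) ∧ nn l χ χ' = ε * nn l ξ ξ' := by
  classical
  have := Fact.mk S.gl.lp
  have h0 : qq l K ^ 2 * 1 ≤ N ^ 3 := by
    have h1 : 0 < N := (Nat.pow_pos S.gl.lp.pos).trans_le S.gl.syl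
    exact (mul_one _).trans_le ((Nat.pow_le_pow_left S.gl.syl 2).trans (Nat.pow_le_pow_right h1 (by norm_num)))
  have h1 : ∀ {G : Type} [Group G] [Fintype G] (χ : IrrCharacter G),
      (classInner (lam l (qq l K) * (χ : G → ℂ)) (lam l (qq l K) * (χ : G → ℂ))).re ≤ (N ^ 3 : ℕ) := fun χ => by
    refine (norm_le (q := qq l K) (c := 1) (fun y => ?_) ((Finset.sum_le_sum_of_subset_of_nonneg (Finset.filter_subset _ _)
      fun _ _ _ => sq_nonneg _).trans_eq ?_)).trans (Nat.cast_le.2 h0)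
    · rw [lam]
      split_ifs <;> simp
    · rw [re_inner, classInner_irr_self χ.2]
      simp
  have h2 := S.key S (κ' := MonoidHom.id K) (κ := MonoidHom.id H) (fun _ => rfl) (fun _ => rfl) h h' lam_gen
    (lam_hom (i := α.toMonoidHom) α.injective) (lam_hom S.inj) S.cube (h1 χ) (h1 ξ)
  rw [nn, nn, show qq l H = qq l K from congrArg (l ^ ·) (S.card hS)]
  exact h2

theorem half1 (hS : BoxSt) (S : Sit l m N α j) (hM : IsPModular l M) (h : Gc m α j χ ξ) :
    vv l χ ≤ vv l ξ ∧ ∀ ξ' χ', Gc m α j χ' ξ' → ξ' ∈ blockOf M (ξ : H → ℂ) → χ' ∈ blockOf M (χ : K → ℂ) :=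
  half hM (R := fun a a' => Gc m α j a' a) (fun _ _ _ _ => S.key0 hS) h fun b _ => S.up b

theorem half2 (hS : BoxSt) (S : Sit l m N α j) (hM : IsPModular l M) (h : Gc m α j χ ξ) :
    vv l ξ ≤ vv l χ ∧ ∀ χ' ξ', Gc m α j χ' ξ' → χ' ∈ blockOf M (χ : K → ℂ) → ξ' ∈ blockOf M (ξ : H → ℂ) :=
  half hM (R := Gc m α j) (fun _ _ _ _ a b => (S.key0 hS a b).imp fun ε e => ⟨e.1, by
    rw [e.2]
    rcases e.1 with e | e <;> simp [e]⟩) h fun b hb => S.down (hS.blk S.gl hM χ h.1 b hb)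

theorem same (hS : BoxSt) (S : Sit l m N α j) (hM : IsPModular l M) (h : Gc m α j χ ξ) (h' : Gc m α j χ' ξ') :
    χ' ∈ blockOf M (χ : K → ℂ) ↔ ξ' ∈ blockOf M (ξ : H → ℂ) :=
  ⟨(S.half2 hS hM h).2 _ _ h', (S.half1 hS hM h).2 _ _ h'⟩

theorem deg (hS : BoxSt) (S : Sit l m N α j) (hM : IsPModular l M) (h : Gc m α j χ ξ) : vv l χ = vv l ξ :=
  le_antisymm (S.half1 hS hM h).1 (S.half2 hS hM h).1

theorem img (hS : BoxSt) (S : Sit l m N α j) (hM : IsPModular l M) (h : Gc m α j χ ξ) :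
    vv l '' blockOf M (χ : K → ℂ) = vv l '' blockOf M (ξ : H → ℂ) := by
  refine Set.ext fun n => ⟨?_, ?_⟩
  · rintro ⟨χ', h1, rfl⟩
    obtain ⟨ξ', h2⟩ := S.down (hS.blk S.gl hM χ h.1 χ' h1)
    exact ⟨ξ', (S.same hS hM h h2).1 h1, (S.deg hS hM h2).symm⟩
  · rintro ⟨ξ', h1, rfl⟩
    obtain ⟨χ', h2⟩ := S.up ξ'
    exact ⟨χ', (S.same hS hM h h2).2 h1, S.deg hS hM h2⟩

end Sit

end Cfsg.Agent.BZ.Lab.W
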